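import Cfsg.Agent.StdEven.OuterKill
import Cfsg.Agent.StdRank2.OutSplit.Group

/-!
# The end of the split case when the outer 2-part has order 2

`Y ≤ G` contains `t` and `g⁻¹ t g ∈ Y` only for `g ∈ Y`.  `Y₀` of index 2 in `Y`, `t ∉ Y₀`, `I₁`, `I₂` of index `≤ 2`
in `Y₀` swapped by `t`, `I = I₁ ∩ I₂ ≤ L`, `G = L⟨t⟩`, `L` perfect.
-/

set_option autoImplicit false

namespace Cfsg.Agent.SwapEnd

open Subgroup MulAction Cfsg.Agent.StdEven.OuterKill Cfsg.Agent.StdRank2.OutSplit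

variable {G : Type*} [Group G]

/-- Configuration. -/
structure Conf2 (L Y Y0 I1 I2 : Subgroup G) (t : G) : Prop where
  normal : L.Normal
  perf : commutator L = ⊤
  gen : ∀ g : G, g ∈ L ∨ t * g ∈ L
  tt : t * t = 1
  tY : t ∈ Y
  tY0 : t ∉ Y0
  Y0_le : Y0 ≤ Y
  Y_or : ∀ y ∈ Y, y ∈ Y0 ∨ t * y ∈ Y0
  t_Y0 : ∀ y ∈ Y0, t * y * t ∈ Y0
  I1_le : I1 ≤ Y0
  I2_le : I2 ≤ Y0
  t_I1 : ∀ y ∈ I1, t * y * t ∈ I2
  t_I2 : ∀ y ∈ I2, t * y * t ∈ I1
  ind1 : ∀ x ∈ Y0, ∀ y ∈ Y0, x ∉ I1 → y ∉ I1 → x * y ∈ I1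
  fix : ∀ g : G, g⁻¹ * t * g ∈ Y → g ∈ Y
  IL : I1 ⊓ I2 ≤ L
  /-- the conjugates in `Y₀` of an outer involution commuting with `t` are in `I₁ ∩ I₂` or outside `I₁ ∪ I₂` -/
  conj : ∀ f ∈ Y0, f * f = 1 → f * t = t * f → f ∉ I1 → ∀ g : G, g⁻¹ * f * g ∈ Y0 →
    (g⁻¹ * f * g ∈ I1 ↔ g⁻¹ * f * g ∈ I2)
  ex : t ∉ L → (∃ y ∈ Y0, y ∉ I1 ⊓ I2) → ∃ f ∈ Y0, f * f = 1 ∧ f * t = t * f ∧ f ∉ I1

namespace Conf2

variable {L Y Y0 I1 I2 : Subgroup G} {t : G} (C : Conf2 L Y Y0 I1 I2 t)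

include C

theorem ti : t⁻¹ = t := inv_eq_of_mul_eq_one_left C.tt

theorem tconj (x : G) : t * (t * x * t) * t = x := by
  calc t * (t * x * t) * t = (t * t) * x * (t * t) := by group
    _ = x := by rw [C.tt, one_mul, mul_one]

theorem ind2 : ∀ x ∈ Y0, ∀ y ∈ Y0, x ∉ I2 → y ∉ I2 → x * y ∈ I2 := by
  intro x hx y hy hx2 hy2
  have h1 : t * x * t ∉ I1 := fun h => hx2 (by
    have := C.t_I1 _ h
    rwa [C.tconj] at this)
  have h2 : t * y * t ∉ I1 := fun h => hy2 (by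
    have := C.t_I1 _ h
    rwa [C.tconj] at this)
  have h3 := C.t_I1 _ (C.ind1 _ (C.t_Y0 x hx) _ (C.t_Y0 y hy) h1 h2)
  have e : t * (t * x * t * (t * y * t)) * t = x * y := by
    calc t * (t * x * t * (t * y * t)) * t = (t * t) * x * (t * t) * y * (t * t) := by group
      _ = x * y := by rw [C.tt]; group
  rwa [e] at h3

/-- `I₁` is normal in `Y₀`. -/
theorem conj_I1 {x y : G} (hx : x ∈ I1) (hy : y ∈ Y0) : y * x * y⁻¹ ∈ I1 := by
  by_cases h : y ∈ I1
  · exact mul_mem (mul_mem h hx) (inv_mem h)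
  · have h1 : y * x ∉ I1 := fun h1 => h (by
      have := mul_mem h1 (inv_mem hx)
      rwa [mul_inv_cancel_right] at this)
    exact C.ind1 _ (mul_mem hy (C.I1_le hx)) _ (inv_mem hy) h1 (fun h2 => h (by
      have := inv_mem h2
      rwa [inv_inv] at this))

theorem conj_I2 {x y : G} (hx : x ∈ I2) (hy : y ∈ Y0) : y * x * y⁻¹ ∈ I2 := by
  by_cases h : y ∈ I2
  · exact mul_mem (mul_mem h hx) (inv_mem h)
  · have h1 : y * x ∉ I2 := fun h1 => h (by
      have := mul_mem h1 (inv_mem hx)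
      rwa [mul_inv_cancel_right] at this)
    exact C.ind2 _ (mul_mem hy (C.I2_le hx)) _ (inv_mem hy) h1 (fun h2 => h (by
      have := inv_mem h2
      rwa [inv_inv] at this))

/-- `I = I₁ ∩ I₂` is normal in `Y`. -/
theorem conj_I {x y : G} (hx : x ∈ I1 ⊓ I2) (hy : y ∈ Y) : y * x * y⁻¹ ∈ I1 ⊓ I2 := by
  have key : ∀ z ∈ Y0, z * x * z⁻¹ ∈ I1 ⊓ I2 := fun z hz =>
    mem_inf.mpr ⟨C.conj_I1 (mem_inf.mp hx).1 hz, C.conj_I2 (mem_inf.mp hx).2 hz⟩
  rcases C.Y_or y hy with h | h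
  · exact key y h
  · have h1 := key _ h
    have h2 := mem_inf.mp h1
    have e : y * x * y⁻¹ = t * (t * y * x * (t * y)⁻¹) * t := by
      calc y * x * y⁻¹ = (t * t) * y * x * y⁻¹ * (t * t)⁻¹ := by rw [C.tt]; group
        _ = t * (t * y * x * (t * y)⁻¹) * t⁻¹ := by group
        _ = _ := by rw [C.ti]
    rw [e]
    exact mem_inf.mpr ⟨C.t_I2 _ h2.2, C.t_I1 _ h2.1⟩

theorem Y0_t {y : G} (hy : y ∈ Y) (hy0 : y ∉ Y0) : t * y ∈ Y0 := (C.Y_or y hy).resolve_left hy0

/-- conjugation by elements of `Y` preserves `Y₀` -/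
theorem conj_Y0 {x y : G} (hx : x ∈ Y0) (hy : y ∈ Y) : y * x * y⁻¹ ∈ Y0 := by
  rcases C.Y_or y hy with h | h
  · exact mul_mem (mul_mem h hx) (inv_mem h)
  · have h1 : t * y * x * (t * y)⁻¹ ∈ Y0 := mul_mem (mul_mem h hx) (inv_mem h)
    have h2 := C.t_Y0 _ h1
    have e : t * (t * y * x * (t * y)⁻¹) * t = y * x * y⁻¹ := by
      have : t * (t * y * x * (t * y)⁻¹) * t⁻¹ = (t * t) * y * x * y⁻¹ * (t * t)⁻¹ := by group
      rw [C.ti] at this
      rw [this, C.tt]
      group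
    rwa [e] at h2

theorem mul_mem_Y0 {x y : G} (hx : x ∈ Y) (hy : y ∈ Y) (hx0 : x ∉ Y0) (hy0 : y ∉ Y0) : x * y ∈ Y0 := by
  have h1 := C.Y0_t hx hx0
  have h2 := C.Y0_t hy hy0
  have h3 := mul_mem (C.t_Y0 _ h1) h2
  have e : t * (t * x) * t * (t * y) = x * y := by
    calc t * (t * x) * t * (t * y) = (t * t) * x * (t * t) * y := by group
      _ = x * y := by rw [C.tt]; group
  rwa [e] at h3

variable [Finite G]

/-- `|G : Y|` is odd: `t` fixes exactly one coset. -/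
theorem odd_index : Odd Y.index := by
  classical
  have := Fintype.ofFinite (G ⧸ Y)
  have h1 := card_mod_two (α := G ⧸ Y) (fun q => t • q) (fun q => by rw [← mul_smul, C.tt, one_smul])
  have hfix : ∀ q : G ⧸ Y, t • q = q ↔ q = ((1 : G) : G ⧸ Y) := by
    intro q
    obtain ⟨g, rfl⟩ := QuotientGroup.mk_surjective q
    rw [smul_coset_eq, QuotientGroup.eq, mul_one]
    constructor
    · intro h
      exact inv_mem (C.fix g h)
    · intro h
      have hg : g ∈ Y := by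
        have := inv_mem h
        rwa [inv_inv] at this
      exact mul_mem (mul_mem h C.tY) hg
  have h2 : Fintype.card {x : G ⧸ Y // t • x = x} = 1 := by
    rw [Fintype.card_eq_one_iff]
    exact ⟨⟨((1 : G) : G ⧸ Y), (hfix _).mpr rfl⟩, fun y => Subtype.ext ((hfix _).mp y.2)⟩
  rw [h2] at h1
  rw [Subgroup.index, Nat.card_eq_fintype_card]
  exact Nat.odd_iff.2 h1

/-- The swap character. -/
noncomputable def sg : Y →* ℤˣ := sgn Y Y0 (fun _ ha _ hb ha0 hb0 => C.mul_mem_Y0 ha hb ha0 hb0)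

theorem transfer_t : MonoidHom.transfer C.sg t = -1 := by
  rw [transfer_const_group C.odd_index C.sg C.tt C.tY (R := ⊥) (IsPGroup.of_bot) (by
      intro r hr
      rw [mem_bot.mp hr, one_mul, mul_one]) (by
      intro g _ hg
      have hgY := C.fix g hg
      have e : (⟨g⁻¹ * t * g, hg⟩ : Y) = ⟨g, hgY⟩⁻¹ * ⟨t, C.tY⟩ * ⟨g, hgY⟩ := rfl
      rw [e, map_mul, map_mul, map_inv, mul_comm (C.sg ⟨g, hgY⟩)⁻¹, inv_mul_cancel_right])]
  exact sgn_of_not_mem C.tY C.tY0

theorem t_not_mem : t ∉ L := by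
  intro htL
  have h2 := hom_eq_one C.perf ((MonoidHom.transfer C.sg).comp L.subtype) ⟨t, htL⟩
  have h3 : MonoidHom.transfer C.sg t = 1 := h2
  rw [C.transfer_t] at h3
  exact absurd h3 (by decide)

theorem f_mem {f : G} (hf : f ∈ Y0) (hff : f * f = 1) (hft : f * t = t * f) : f ∈ L := by
  have h1 : MonoidHom.transfer C.sg f = 1 := by
    rw [transfer_const_group C.odd_index C.sg hff (C.Y0_le hf) (R := zpowers t) (by
        intro ⟨x, hx⟩
        obtain ⟨i, rfl⟩ := mem_zpowers_iff.mp hx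
        refine ⟨1, Subtype.ext ?_⟩
        show (t ^ i) ^ 2 ^ 1 = 1
        rw [← zpow_natCast, ← zpow_mul, mul_comm, zpow_mul, zpow_natCast, pow_one, pow_two, C.tt, one_zpow]) (by
        intro r hr
        obtain ⟨i, rfl⟩ := mem_zpowers_iff.mp hr
        have : Commute f t := hft
        exact (this.zpow_right i).symm) (by
        intro g hr hg
        have hgY := C.fix g (hr t (mem_zpowers t))
        have e : (⟨g⁻¹ * f * g, hg⟩ : Y) = ⟨g, hgY⟩⁻¹ * ⟨f, C.Y0_le hf⟩ * ⟨g, hgY⟩ := rfl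
        rw [e, map_mul, map_mul, map_inv, mul_comm (C.sg ⟨g, hgY⟩)⁻¹, inv_mul_cancel_right])]
    exact sgn_of_mem (C.Y0_le hf) hf
  by_contra hfL
  have h3 : t * f ∈ L := (C.gen f).resolve_left hfL
  have h4 := hom_eq_one C.perf ((MonoidHom.transfer C.sg).comp L.subtype) ⟨t * f, h3⟩
  have h5 : MonoidHom.transfer C.sg (t * f) = 1 := h4
  rw [map_mul, h1, C.transfer_t] at h5
  exact absurd h5 (by decide)

theorem odd_index_L : Odd (Y.subgroupOf L).index := by
  classical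
  have := C.normal
  have := Fintype.ofFinite (L ⧸ Y.subgroupOf L)
  let b : L ≃* L := MulAut.conjNormal t
  have hb : ∀ x : L, ((b x : L) : G) = t * x * t⁻¹ := fun x => MulAut.conjNormal_apply t x
  have hbb : ∀ x, b (b x) = x := by
    intro x
    apply Subtype.ext
    rw [hb, hb, C.ti]
    exact C.tconj x
  have hbH : ∀ x ∈ Y.subgroupOf L, b x ∈ Y.subgroupOf L := by
    intro x hx
    rw [mem_subgroupOf, hb]
    exact mul_mem (mul_mem C.tY (mem_subgroupOf.mp hx)) (inv_mem C.tY)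
  let β : L ⧸ Y.subgroupOf L → L ⧸ Y.subgroupOf L := Quotient.map' (fun g => b g) (by
    intro g g' h
    rw [QuotientGroup.leftRel_apply] at h ⊢
    have := hbH _ h
    rwa [map_mul, map_inv] at this)
  have hβ : ∀ g : L, β (g : L ⧸ Y.subgroupOf L) = ((b g : L) : L ⧸ Y.subgroupOf L) := fun g => rfl
  have hβ2 : ∀ q, β (β q) = q := by
    intro q
    obtain ⟨g, rfl⟩ := QuotientGroup.mk_surjective q
    rw [hβ, hβ, hbb]
  have h1 := card_mod_two β hβ2
  have hfix : ∀ q : L ⧸ Y.subgroupOf L, β q = q ↔ q = ((1 : L) : L ⧸ Y.subgroupOf L) := by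
    intro q
    obtain ⟨g, rfl⟩ := QuotientGroup.mk_surjective q
    rw [hβ, QuotientGroup.eq, QuotientGroup.eq, mul_one, mem_subgroupOf, mem_subgroupOf]
    have e : (((b g)⁻¹ * g : L) : G) = t * (g : G)⁻¹ * t * g := by
      rw [Subgroup.coe_mul, Subgroup.coe_inv, hb, mul_inv_rev, mul_inv_rev, inv_inv, C.ti]
      group
    rw [e, Subgroup.coe_inv]
    constructor
    · intro h
      apply inv_mem
      apply C.fix
      have := mul_mem C.tY h
      have e2 : t * (t * (g : G)⁻¹ * t * g) = (g : G)⁻¹ * t * g := by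
        calc t * (t * (g : G)⁻¹ * t * g) = (t * t) * (g : G)⁻¹ * t * g := by group
          _ = _ := by rw [C.tt, one_mul]
      rwa [e2] at this
    · intro h
      have hg : (g : G) ∈ Y := by
        have := inv_mem h
        rwa [inv_inv] at this
      exact mul_mem (mul_mem (mul_mem C.tY h) C.tY) hg
  have h2 : Fintype.card {x : L ⧸ Y.subgroupOf L // β x = x} = 1 := by
    rw [Fintype.card_eq_one_iff]
    exact ⟨⟨((1 : L) : L ⧸ Y.subgroupOf L), (hfix _).mpr rfl⟩, fun y => Subtype.ext ((hfix _).mp y.2)⟩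
  rw [h2] at h1
  rw [Subgroup.index, Nat.card_eq_fintype_card]
  exact Nat.odd_iff.2 h1

/-- elements of `Y ∩ L` outside `Y₀`: `t y` is in exactly one of `I₁`, `I₂` (given an outer `f`). -/
theorem ty_cases {f : G} (hf : f ∈ Y0) (hf1 : f ∉ I1) (hf2 : f ∉ I2) (hfL : f ∈ L) {y : G} (hy : y ∈ Y) (hyL : y ∈ L)
    (hy0 : y ∉ Y0) : ¬ (t * y ∈ I1 ↔ t * y ∈ I2) := by
  have h0 := C.Y0_t hy hy0
  have hn : t * y ∉ L := fun h => C.t_not_mem (by
    have := mul_mem h (inv_mem hyL)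
    rwa [mul_inv_cancel_right] at this)
  intro h
  by_cases h1 : t * y ∈ I1
  · exact hn (C.IL (mem_inf.mpr ⟨h1, h.mp h1⟩))
  · have h2 : t * y ∉ I2 := fun h2 => h1 (h.mpr h2)
    have h3 : t * y * f ∈ L := C.IL (mem_inf.mpr ⟨C.ind1 _ h0 _ hf h1 hf1, C.ind2 _ h0 _ hf h2 hf2⟩)
    apply hn
    have := mul_mem h3 (inv_mem hfL)
    rwa [mul_inv_cancel_right] at this

/-- **End of the split case.** -/
theorem inf_eq : Y ⊓ L = I1 ⊓ I2 := by
  classical
  have := C.normal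
  apply le_antisymm _ (le_inf ((inf_le_left.trans C.I1_le).trans C.Y0_le) C.IL)
  by_cases hex : ∃ y ∈ Y0, y ∉ I1 ⊓ I2
  swap
  · -- `Y₀ = I`
    push Not at hex
    intro y hy
    obtain ⟨hyY, hyL⟩ := mem_inf.mp hy
    rcases C.Y_or y hyY with h | h
    · exact hex y h
    · exfalso
      apply C.t_not_mem
      have h1 := C.IL (hex _ h)
      have := mul_mem h1 (inv_mem hyL)
      rwa [mul_inv_cancel_right] at this
  exfalso
  obtain ⟨f, hf, hff, hft, hf1⟩ := C.ex C.t_not_mem hex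
  have hf2 : f ∉ I2 := by
    intro h
    have h1 := C.t_I2 _ h
    have e : t * f * t = f := by rw [← hft, mul_assoc, C.tt, mul_one]
    rw [e] at h1
    exact hf1 h1
  have hfL := C.f_mem hf hff hft
  set H : Subgroup L := Y.subgroupOf L with hH
  -- commutators
  have hcomm0 : ∀ x ∈ Y0, ∀ y ∈ Y0, x * y * x⁻¹ * y⁻¹ ∈ I1 := by
    intro x hx y hy
    by_cases h : y ∈ I1
    · exact mul_mem (C.conj_I1 h hx) (inv_mem h)
    · have h1 : x * y * x⁻¹ ∉ I1 := fun h1 => h (by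
        have := C.conj_I1 h1 (inv_mem hx)
        have e : x⁻¹ * (x * y * x⁻¹) * x⁻¹⁻¹ = y := by group
        rwa [e] at this)
      exact C.ind1 _ (mul_mem (mul_mem hx hy) (inv_mem hx)) _ (inv_mem hy) h1 (fun h2 => h (by
        have := inv_mem h2
        rwa [inv_inv] at this))
  have hcomm0' : ∀ x ∈ Y0, ∀ y ∈ Y0, x * y * x⁻¹ * y⁻¹ ∈ I2 := by
    intro x hx y hy
    by_cases h : y ∈ I2
    · exact mul_mem (C.conj_I2 h hx) (inv_mem h)
    · have h1 : x * y * x⁻¹ ∉ I2 := fun h1 => h (by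
        have := C.conj_I2 h1 (inv_mem hx)
        have e : x⁻¹ * (x * y * x⁻¹) * x⁻¹⁻¹ = y := by group
        rwa [e] at this)
      exact C.ind2 _ (mul_mem (mul_mem hx hy) (inv_mem hx)) _ (inv_mem hy) h1 (fun h2 => h (by
        have := inv_mem h2
        rwa [inv_inv] at this))
  -- if some element of `Y ∩ L` is outside `Y₀`, then `Y₀ ∩ L ⊆ I ∪ f I`
  have hsw : ∀ c ∈ Y, c ∈ L → c ∉ Y0 → ∀ y ∈ Y0, y ∈ L → (y ∈ I1 ↔ y ∈ I2) := by
    intro c hcY hcL hc0 y hy hyL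
    have h1 := C.ty_cases hf hf1 hf2 hfL hcY hcL hc0
    have h0 := C.Y0_t hcY hc0
    -- `c y` is again in `Y ∩ L` outside `Y₀`
    have h2 : c * y ∉ Y0 := fun h => hc0 (by
      have := mul_mem h (inv_mem hy)
      rwa [mul_inv_cancel_right] at this)
    have h3 := C.ty_cases hf hf1 hf2 hfL (mul_mem hcY (C.Y0_le hy)) (mul_mem hcL hyL) h2
    rw [← mul_assoc] at h3
    have k1 : ∀ {J : Subgroup G}, (∀ x ∈ Y0, ∀ y ∈ Y0, x ∉ J → y ∉ J → x * y ∈ J) →
        (y ∈ J ↔ (t * c * y ∈ J ↔ t * c ∈ J)) := by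
      intro J hJ
      constructor
      · intro hyJ
        exact ⟨fun h => by
          have := mul_mem h (inv_mem hyJ)
          rwa [mul_inv_cancel_right] at this, fun h => mul_mem h hyJ⟩
      · intro h
        by_contra hyJ
        by_cases h4 : t * c ∈ J
        · exact hyJ (by
            have := mul_mem (inv_mem h4) (h.mpr h4)
            rwa [inv_mul_cancel_left] at this)
        · exact h4 (h.mp (hJ _ h0 _ hy h4 hyJ))
    have k2 := k1 C.ind1
    have k3 := k1 C.ind2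
    tauto
  have hI' : ∀ x ∈ H, ∀ y ∈ H, ((x * y * x⁻¹ * y⁻¹ : L) : G) ∈ I1 ⊓ I2 := by
    intro x hx y hy
    rw [hH, mem_subgroupOf] at hx hy
    have e : ((x * y * x⁻¹ * y⁻¹ : L) : G) = (x : G) * y * (x : G)⁻¹ * (y : G)⁻¹ := rfl
    rw [e]
    -- the case `x ∈ Y₀`
    have c1 : ∀ a : L, (a : G) ∈ Y0 → ∀ d : L, (d : G) ∈ Y → (d : G) * a * (d : G)⁻¹ * (a : G)⁻¹ ∈ I1 ⊓ I2 := by
      intro a ha d hd
      by_cases hd0 : (d : G) ∈ Y0
      · exact mem_inf.mpr ⟨hcomm0 _ hd0 _ ha, hcomm0' _ hd0 _ ha⟩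
      · have h1 := hsw d hd d.2 hd0 a ha a.2
        by_cases h2 : (a : G) ∈ I1
        · have h3 : (a : G) ∈ I1 ⊓ I2 := mem_inf.mpr ⟨h2, h1.mp h2⟩
          exact mul_mem (C.conj_I h3 hd) (inv_mem h3)
        · have h3 : (a : G) ∉ I2 := fun h => h2 (h1.mpr h)
          have h4 : (d : G) * a * (d : G)⁻¹ ∈ Y0 := C.conj_Y0 ha hd
          have h5 : (d : G) * a * (d : G)⁻¹ ∉ I1 ⊓ I2 := fun h => h2 (by
            have := C.conj_I h (inv_mem hd)
            have e : (d : G)⁻¹ * ((d : G) * a * (d : G)⁻¹) * (d : G)⁻¹⁻¹ = a := by group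
            rw [e] at this
            exact (mem_inf.mp this).1)
          have h6 := hsw d hd d.2 hd0 _ h4 (mul_mem (mul_mem d.2 a.2) (inv_mem d.2))
          have h7 : (d : G) * a * (d : G)⁻¹ ∉ I1 := fun h => h5 (mem_inf.mpr ⟨h, h6.mp h⟩)
          have h8 : (d : G) * a * (d : G)⁻¹ ∉ I2 := fun h => h7 (h6.mpr h)
          exact mem_inf.mpr ⟨C.ind1 _ h4 _ (inv_mem ha) h7 (fun h => h2 (by
            have := inv_mem h
            rwa [inv_inv] at this)), C.ind2 _ h4 _ (inv_mem ha) h8 (fun h => h3 (by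
            have := inv_mem h
            rwa [inv_inv] at this))⟩
    by_cases hy0 : (y : G) ∈ Y0
    · exact c1 y hy0 x hx
    by_cases hx0 : (x : G) ∈ Y0
    · have h1 := inv_mem (c1 x hx0 y hy)
      have e : ((y : G) * x * (y : G)⁻¹ * (x : G)⁻¹)⁻¹ = (x : G) * y * (x : G)⁻¹ * (y : G)⁻¹ := by group
      rwa [e] at h1
    · -- `y = x z`
      have hz : ((x⁻¹ * y : L) : G) ∈ Y0 := by
        show (x : G)⁻¹ * y ∈ Y0
        exact C.mul_mem_Y0 (inv_mem hx) hy (fun h => hx0 (by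
          have := inv_mem h
          rwa [inv_inv] at this)) hy0
      have h1 := C.conj_I (c1 _ hz x hx) hx
      have e : (x : G) * ((x : G) * ((x⁻¹ * y : L) : G) * (x : G)⁻¹ * ((x⁻¹ * y : L) : G)⁻¹) * (x : G)⁻¹ =
          (x : G) * y * (x : G)⁻¹ * (y : G)⁻¹ := by
        show (x : G) * ((x : G) * ((x : G)⁻¹ * y) * (x : G)⁻¹ * ((x : G)⁻¹ * y)⁻¹) * (x : G)⁻¹ = _
        group
      rwa [e] at h1
  -- the quotient of `H` by `I`
  let J : Subgroup H := ((I1 ⊓ I2).subgroupOf L).subgroupOf H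
  have hJ : ∀ x : H, x ∈ J ↔ ((x : L) : G) ∈ I1 ⊓ I2 := by
    intro x
    rw [mem_subgroupOf, mem_subgroupOf]
  have hJn : J.Normal := by
    refine ⟨fun x hx g => ?_⟩
    rw [hJ] at hx ⊢
    exact C.conj_I hx (mem_subgroupOf.mp g.2)
  let _ : CommGroup (H ⧸ J) := { (inferInstance : Group (H ⧸ J)) with
    mul_comm := by
      intro a b
      induction a using QuotientGroup.induction_on with
      | H x =>
        induction b using QuotientGroup.induction_on with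
        | H y =>
          rw [← QuotientGroup.mk_mul, ← QuotientGroup.mk_mul, QuotientGroup.eq, hJ]
          have h1 := hI' (y⁻¹ : L) (inv_mem y.2) (x⁻¹ : L) (inv_mem x.2)
          have e : (((x * y)⁻¹ * (y * x) : H) : L) = (y : L)⁻¹ * (x : L)⁻¹ * (y : L)⁻¹⁻¹ * (x : L)⁻¹⁻¹ := by
            show ((x : L) * y)⁻¹ * ((y : L) * x) = _
            group
          rw [e]
          exact h1 }
  let ψ : H →* H ⧸ J := QuotientGroup.mk' J
  have hψ1 : ∀ x (hx : x ∈ H), ψ ⟨x, hx⟩ = 1 ↔ (x : G) ∈ I1 ⊓ I2 := by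
    intro x hx
    show ((⟨x, hx⟩ : H) : H ⧸ J) = 1 ↔ _
    rw [QuotientGroup.eq_one_iff, hJ]
  have hfH : (⟨f, hfL⟩ : L) ∈ H := by
    rw [hH, mem_subgroupOf]
    exact C.Y0_le hf
  have hω : ψ ⟨_, hfH⟩ ≠ 1 := fun h => hf1 (mem_inf.mp ((hψ1 _ hfH).mp h)).1
  let b : L ≃* L := MulAut.conjNormal t
  have hb : ∀ x : L, ((b x : L) : G) = t * x * t⁻¹ := fun x => MulAut.conjNormal_apply t x
  have hbH : ∀ x ∈ H, b x ∈ H := by
    intro x hx
    rw [hH, mem_subgroupOf] at hx ⊢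
    rw [hb]
    exact mul_mem (mul_mem C.tY hx) (inv_mem C.tY)
  have key := parity H C.odd_index_L ψ hω (f := ⟨f, hfL⟩) (Subtype.ext hff)
    (by
      intro g hg
      have hxY : (g : G)⁻¹ * f * g ∈ Y := mem_subgroupOf.mp hg
      have hxL : (g : G)⁻¹ * f * g ∈ L := (g⁻¹ * ⟨f, hfL⟩ * g : L).2
      have hxx : (g : G)⁻¹ * f * g * ((g : G)⁻¹ * f * g) = 1 := by
        calc (g : G)⁻¹ * f * g * ((g : G)⁻¹ * f * g) = (g : G)⁻¹ * (f * f) * g := by group
          _ = 1 := by rw [hff]; group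
      by_cases hx0 : (g : G)⁻¹ * f * g ∈ Y0
      · have h1 := C.conj f hf hff hft hf1 g hx0
        by_cases h2 : (g : G)⁻¹ * f * g ∈ I1
        · left
          rw [hψ1]
          exact mem_inf.mpr ⟨h2, h1.mp h2⟩
        · right
          have h3 : (g : G)⁻¹ * f * g ∉ I2 := fun h => h2 (h1.mpr h)
          show ((⟨_, hg⟩ : H) : H ⧸ J) = ((⟨_, hfH⟩ : H) : H ⧸ J)
          rw [QuotientGroup.eq, hJ]
          show ((g : G)⁻¹ * f * g)⁻¹ * f ∈ I1 ⊓ I2
          exact mem_inf.mpr ⟨C.ind1 _ (inv_mem hx0) _ hf (fun h => h2 (by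
            have := inv_mem h
            rwa [inv_inv] at this)) hf1, C.ind2 _ (inv_mem hx0) _ hf (fun h => h3 (by
            have := inv_mem h
            rwa [inv_inv] at this)) hf2⟩
      · exfalso
        -- `x = t z`, `x² = (t z t) z`
        set x := (g : G)⁻¹ * f * g with hx
        have h1 := C.ty_cases hf hf1 hf2 hfL hxY hxL hx0
        have h0 := C.Y0_t hxY hx0
        have h2 : t * (t * x) * t * (t * x) = 1 := by
          calc t * (t * x) * t * (t * x) = (t * t) * x * (t * t) * x := by group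
            _ = x * x := by rw [C.tt]; group
            _ = 1 := hxx
        have h3 : t * (t * x) * t = (t * x)⁻¹ := eq_inv_of_mul_eq_one_left h2
        apply h1
        constructor
        · intro h
          have h4 := C.t_I1 _ h
          rw [h3] at h4
          have := inv_mem h4
          rwa [inv_inv] at this
        · intro h
          have h4 := C.t_I2 _ h
          rw [h3] at h4
          have := inv_mem h4
          rwa [inv_inv] at this)
    b (by
      intro x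
      apply Subtype.ext
      rw [hb, hb, C.ti]
      exact C.tconj x)
    (by
      apply Subtype.ext
      rw [hb, C.ti]
      show t * f * t = f
      rw [← hft, mul_assoc, C.tt, mul_one])
    hbH
    (by
      intro x hx h
      rw [hψ1] at h ⊢
      rw [hb]
      exact C.conj_I h C.tY)
    (by
      intro g hg hg'
      have h1 : (g : G)⁻¹ * (t * g * t⁻¹) ∈ Y := by
        have := mem_subgroupOf.mp hg
        rwa [Subgroup.coe_mul, Subgroup.coe_inv, hb] at this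
      have h2 : (g : G) ∈ Y := by
        apply C.fix
        have := mul_mem h1 C.tY
        have e : (g : G)⁻¹ * (t * g * t⁻¹) * t = (g : G)⁻¹ * t * g := by group
        rwa [e] at this
      intro h
      rw [hψ1] at h
      have h3 := C.conj_I h h2
      have e : (g : G) * ((g⁻¹ * ⟨f, hfL⟩ * g : L) : G) * (g : G)⁻¹ = f := by
        show (g : G) * ((g : G)⁻¹ * f * g) * (g : G)⁻¹ = f
        group
      rw [e] at h3
      exact hf1 (mem_inf.mp h3).1)
  exact key (hom_eq_one C.perf _ _)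

end Conf2

end Cfsg.Agent.SwapEnd
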