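import Cfsg.Agent.SwapEnd.Perm
import Cfsg.Agent.SwapEnd.Kill

/-!
# From the swapped pair `M`, `M^t` to the configuration `Conf2`
-/

set_option autoImplicit false

namespace Cfsg.Agent.SwapEnd

open Subgroup Cfsg.Agent.StdEven.Syl Cfsg.Agent.StdEven.OuterKill Cfsg.Agent.StdRank2.OutSplit
open scoped commutatorElement

variable {G : Type*} [Group G]

/-- elements of `N(M) ∩ N(M^t)` inner on `M` -/
def I1 (M : Subgroup G) (t : G) : Subgroup G where
  carrier := {y | y ∈ YZ M t ∧ Inn M y}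
  one_mem' := ⟨one_mem _, Inn.one⟩
  mul_mem' := fun hx hy => ⟨mul_mem hx.1 hy.1, hx.2.mul hy.2⟩
  inv_mem' := fun hx => ⟨inv_mem hx.1, hx.2.inv⟩

/-- elements of `N(M) ∩ N(M^t)` inner on `M^t` -/
def I2 (M : Subgroup G) (t : G) : Subgroup G where
  carrier := {y | y ∈ YZ M t ∧ Inn (M2 M t) y}
  one_mem' := ⟨one_mem _, Inn.one⟩
  mul_mem' := fun hx hy => ⟨mul_mem hx.1 hy.1, hx.2.mul hy.2⟩
  inv_mem' := fun hx => ⟨inv_mem hx.1, hx.2.inv⟩

theorem mem_I1 {M : Subgroup G} {t y : G} : y ∈ I1 M t ↔ y ∈ YZ M t ∧ Inn M y := Iff.rfl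

theorem mem_I2 {M : Subgroup G} {t y : G} : y ∈ I2 M t ↔ y ∈ YZ M t ∧ Inn (M2 M t) y := Iff.rfl

/-- a subgroup `H` "of index 2" in `K` -/
theorem card_le_two [Finite G] {K H : Subgroup G} (h : ∀ x ∈ K, ∀ y ∈ K, x ∉ H → y ∉ H → x * y ∈ H) :
    Nat.card K ≤ 2 * Nat.card (K ⊓ H : Subgroup G) := by
  classical
  by_cases h1 : ∃ k ∈ K, k ∉ H
  · obtain ⟨k, hk, hkH⟩ := h1
    have hki : k⁻¹ ∉ H := fun h2 => hkH (by
      have := inv_mem h2
      rwa [inv_inv] at this)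
    let f : K → (K ⊓ H : Subgroup G) ⊕ (K ⊓ H : Subgroup G) := fun x =>
      if hx : (x : G) ∈ H then Sum.inl ⟨x, mem_inf.mpr ⟨x.2, hx⟩⟩
      else Sum.inr ⟨k⁻¹ * x, mem_inf.mpr ⟨mul_mem (inv_mem hk) x.2, h _ (inv_mem hk) _ x.2 hki hx⟩⟩
    have hf : Function.Injective f := by
      intro x y hxy
      by_cases hx : (x : G) ∈ H <;> by_cases hy : (y : G) ∈ H
      · simp only [f, hx, hy, dif_pos, Sum.inl.injEq] at hxy
        have := congrArg Subtype.val hxy
        exact Subtype.ext this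
      · simp only [f, hx, hy, dif_pos, dif_neg, not_false_eq_true, reduceCtorEq] at hxy
      · simp only [f, hx, hy, dif_pos, dif_neg, not_false_eq_true, reduceCtorEq] at hxy
      · simp only [f, hx, hy, dif_neg, not_false_eq_true, Sum.inr.injEq] at hxy
        have := congrArg Subtype.val hxy
        exact Subtype.ext (mul_left_cancel this)
    have := Nat.card_le_card_of_injective f hf
    rw [Nat.card_sum] at this
    omega
  · push Not at h1
    have h2 : K ≤ K ⊓ H := fun x hx => mem_inf.mpr ⟨hx, h1 x hx⟩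
    have := Subgroup.card_le_of_le h2
    omega

theorem card_mul_le [Finite G] {A B C : Subgroup G} (hA : A ≤ C) (hB : B ≤ C) (h : Disjoint A B) :
    Nat.card A * Nat.card B ≤ Nat.card C := by
  rw [← Nat.card_prod]
  apply Nat.card_le_card_of_injective (fun p : A × B => (⟨(p.1 : G) * p.2, mul_mem (hA p.1.2) (hB p.2.2)⟩ : C))
  intro p q hpq
  have h1 : (p.1 : G) * p.2 = q.1 * q.2 := congrArg Subtype.val hpq
  exact Subgroup.mul_injective_of_disjoint h h1

theorem eq_one_of_two_odd [Finite G] {H : Subgroup G} (hH : Odd (Nat.card H)) {x : G} (hx : x ∈ H) {k : ℕ}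
    (hk : x ^ 2 ^ k = 1) : x = 1 := by
  have h1 : orderOf x ∣ Nat.card H := Subgroup.orderOf_dvd_natCard H hx
  have h2 : orderOf x ∣ 2 ^ k := orderOf_dvd_of_pow_eq_one hk
  have h3 : Nat.Coprime (Nat.card H) (2 ^ k) := (Nat.Coprime.pow_left k hH.coprime_two_left).symm
  have h4 : orderOf x ∣ 1 := by
    rw [← Nat.Coprime.gcd_eq_one h3]
    exact Nat.dvd_gcd h1 h2
  exact orderOf_eq_one_iff.mp (Nat.dvd_one.mp h4)

/-- a 2-subgroup containing `t` lies in `Y` -/
theorem le_of_fix [Finite G] {Y T : Subgroup G} {t : G} (fix : ∀ g : G, g⁻¹ * t * g ∈ Y → g ∈ Y)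
    (hT : IsPGroup 2 T) (ht : t ∈ T) (htY : t ∈ Y) : T ≤ Y := by
  by_contra hne
  have : Fact (Nat.Prime 2) := ⟨Nat.prime_two⟩
  have : Group.IsNilpotent T := hT.isNilpotent
  have h1 : Y.subgroupOf T < ⊤ := by
    rw [lt_top_iff_ne_top]
    intro h
    exact hne (Subgroup.subgroupOf_eq_top.mp h)
  have h2 := Group.normalizerCondition_of_isNilpotent (G := T) _ h1
  obtain ⟨x, hx, hxY⟩ := SetLike.exists_of_lt h2
  apply hxY
  rw [mem_subgroupOf]
  apply fix
  have h3 := (mem_normalizer_iff''.mp hx) (⟨t, ht⟩ : T)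
  have h4 := h3.mp (mem_subgroupOf.mpr htY)
  rw [mem_subgroupOf] at h4
  exact h4

theorem isPGroup_of_sq {B : Subgroup G} (hB : ∀ x ∈ B, x * x = 1) : IsPGroup 2 B := fun x =>
  ⟨1, Subtype.ext (by rw [pow_one, pow_two]; exact hB x.1 x.2)⟩

/-- `C_G(M M^t t)` contains no involution -/
def OddC (M : Subgroup G) (t : G) : Prop :=
  ∀ c : G, (∀ m ∈ M ⊔ M2 M t, c * m = m * c) → c * t = t * c → c * c = 1 → c = 1

/-- the hypotheses -/
structure Hyp (L A M : Subgroup G) (t : G) (c e u : ℕ) : Prop where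
  normal : L.Normal
  perf : commutator L = ⊤
  gen : ∀ g : G, g ∈ L ∨ t * g ∈ L
  inv : ∃ v ∈ M, v * v = 1 ∧ ∃ m ∈ M, v * m ≠ m * v
  F1 : ∀ g : G, g⁻¹ * t * g ∉ YZ M t
  oddC : OddC M t
  ind : ∀ x ∈ normalizer (M : Set G), ∀ y ∈ normalizer (M : Set G), ¬ Inn M x → ¬ Inn M y → Inn M (x * y)
  o1 : ∀ f ∈ normalizer (M : Set G), f * f = 1 → ¬ Inn M f → ∀ R : Subgroup G, IsPGroup 2 R →
    (∀ r ∈ R, Inn M r ∧ r * f = f * r) → Nat.card R ≤ c * Nat.card (R ⊓ centralizer (M : Set G) : Subgroup G)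
  o2 : ∀ f ∈ normalizer (M : Set G), f * f = 1 → ∃ E ≤ M, (∀ x ∈ E, x * x = 1) ∧ (∀ x ∈ E, x * f = f * x) ∧ e ≤ Nat.card E
  o3 : ∀ f ∈ normalizer (M : Set G), f * f = 1 → Inn M f →
    ∃ U ≤ M, IsPGroup 2 U ∧ (∀ x ∈ U, x * f = f * x) ∧ u ≤ Nat.card U
  num : 4 * (c * c) < e * u
  invf : t ∉ L → (∃ c, c * t = t * c ∧ ¬ Inn A c) → ∃ f, f * t = t * f ∧ f * f = 1 ∧ ¬ Inn A f

namespace Swap

variable {M : Subgroup G} {t : G} (S : Swap M t)

include S

theorem tmul (x y : G) : t * (x * y) * t = t * x * t * (t * y * t) := by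
  calc t * (x * y) * t = t * x * 1 * y * t := by group
    _ = t * x * (t * t) * y * t := by rw [S.tt]
    _ = _ := by group

theorem tinv (x : G) : t * x⁻¹ * t = (t * x * t)⁻¹ := by
  rw [mul_inv_rev, mul_inv_rev, S.ti]; group

theorem tswap {a b m : G} (h : a * (t * m * t) = t * m * t * b) : t * a * t * m = m * (t * b * t) := by
  calc t * a * t * m = t * (a * (t * m * t)) * t := by
        have : t * (a * (t * m * t)) * t = t * a * t * m * (t * t) := by group
        rw [this, S.tt, mul_one]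
    _ = t * (t * m * t * b) * t := by rw [h]
    _ = (t * t) * m * (t * b * t) := by group
    _ = m * (t * b * t) := by rw [S.tt, one_mul]

theorem Inn_M2 {y : G} (h : Inn M y) : Inn (M2 M t) (t * y * t) := by
  obtain ⟨m, hm, h1⟩ := h
  refine ⟨t * m * t, S.conj_mem_M2 hm, fun x hx => ?_⟩
  have h2 := S.tswap (h1 _ (S.mem_M2.mp hx))
  rw [S.tmul, S.tinv] at h2
  exact h2

theorem Inn_M {y : G} (h : Inn (M2 M t) y) : Inn M (t * y * t) := by
  obtain ⟨m, hm, h1⟩ := h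
  refine ⟨t * m * t, S.mem_M2.mp hm, fun x hx => ?_⟩
  have h2 := S.tswap (h1 _ (S.conj_mem_M2 hx))
  rw [S.tmul, S.tinv] at h2
  exact h2

theorem t_I1 {y : G} (h : y ∈ I1 M t) : t * y * t ∈ I2 M t := ⟨S.t_YZ h.1, S.Inn_M2 h.2⟩

theorem t_I2 {y : G} (h : y ∈ I2 M t) : t * y * t ∈ I1 M t := ⟨S.t_YZ h.1, S.Inn_M h.2⟩

theorem comm_MM_iff {c : G} : (∀ m ∈ M ⊔ M2 M t, c * m = m * c) ↔ (∀ m ∈ M, c * m = m * c) ∧ ∀ m ∈ M2 M t, c * m = m * c := by
  constructor
  · intro h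
    exact ⟨fun m hm => h m (mem_sup_left hm), fun m hm => h m (mem_sup_right hm)⟩
  · rintro ⟨h1, h2⟩ m hm
    obtain ⟨a, ha, b, hb, rfl⟩ := S.mem_MM.mp hm
    rw [← mul_assoc, h1 a ha, mul_assoc, h2 b hb, ← mul_assoc]

/-- an element of `I₁ ∩ I₂` is a product `a b c` -/
theorem exists_of_mem_I {i : G} (h1 : i ∈ I1 M t) (h2 : i ∈ I2 M t) : ∃ a ∈ M, ∃ b ∈ M2 M t,
    ∃ c, (∀ m ∈ M ⊔ M2 M t, c * m = m * c) ∧ i = a * b * c := by
  obtain ⟨-, a, ha, h1⟩ := h1
  obtain ⟨-, b, hb, h2⟩ := h2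
  have hab := S.commM ha hb
  refine ⟨a, ha, b, hb, (a * b)⁻¹ * i, ?_, by group⟩
  rw [S.comm_MM_iff]
  constructor
  · intro m hm
    have e : (a * b)⁻¹ * i = b⁻¹ * (a⁻¹ * i) := by group
    rw [e, mul_assoc, h1 m hm, ← mul_assoc, ← mul_assoc]
    have h3 : m * b⁻¹ = b⁻¹ * m := S.commM hm (inv_mem hb)
    rw [← h3]; group
  · intro m hm
    have e : (a * b)⁻¹ * i = a⁻¹ * (b⁻¹ * i) := by rw [hab]; group
    rw [e, mul_assoc, h2 m hm, ← mul_assoc, ← mul_assoc]
    have h3 : a⁻¹ * m = m * a⁻¹ := S.commM (inv_mem ha) hm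
    rw [h3]; group

theorem comm_mem_YZ {c : G} (hc : ∀ m ∈ M ⊔ M2 M t, c * m = m * c) : c ∈ YZ M t := by
  have key : ∀ {c : G}, (∀ m ∈ M ⊔ M2 M t, c * m = m * c) → ∀ K ≤ M ⊔ M2 M t, c ∈ normalizer (K : Set G) := by
    intro c hc K hK
    rw [mem_normalizer_iff]
    intro x
    constructor
    · intro hx
      rw [hc x (hK hx), mul_inv_cancel_right]
      exact hx
    · intro hx
      have h1 := hc _ (hK hx)
      have h2 : c * x * c⁻¹ = x := by
        have : c * (c * x * c⁻¹) = c * x := by rw [h1]; group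
        exact mul_left_cancel this
      rwa [h2] at hx
  exact mem_inf.mpr ⟨key hc _ le_sup_left, key hc _ le_sup_right⟩

theorem MM_le_I {x : G} (hx : x ∈ M ⊔ M2 M t) : x ∈ I1 M t ⊓ I2 M t := by
  have h0 := S.MM_le_YZ hx
  obtain ⟨a, ha, b, hb, rfl⟩ := S.mem_MM.mp hx
  refine mem_inf.mpr ⟨⟨h0, a, ha, fun m hm => ?_⟩, ⟨h0, b, hb, fun m hm => ?_⟩⟩
  · rw [inv_mul_cancel_left]
    exact (S.commM hm hb).symm
  · have e : b⁻¹ * (a * b) = a := by rw [S.commM ha hb]; group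
    rw [e]
    exact S.commM ha hm

theorem comm_mem_I {c : G} (hc : ∀ m ∈ M ⊔ M2 M t, c * m = m * c) : c ∈ I1 M t ⊓ I2 M t :=
  mem_inf.mpr ⟨⟨S.comm_mem_YZ hc, Inn.of_comm fun x hx => hc x (mem_sup_left hx)⟩,
    ⟨S.comm_mem_YZ hc, Inn.of_comm fun x hx => hc x (mem_sup_right hx)⟩⟩

/-- an element commuting with `t`, normalizing `M` and centralizing `A` centralizes `M` -/
theorem comm_M_of_comm_A {A : Subgroup G} (D : Swap.Dia S A) {g : G} (hg : g ∈ YZ M t)
    (hA : ∀ a ∈ A, g * a = a * g) : ∀ m ∈ M, g * m = m * g := by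
  obtain ⟨hg1, hg2⟩ := mem_inf.mp hg
  have hM : ∀ m ∈ M, g * m * g⁻¹ ∈ M := fun m hm => conj_mem_of_mem_normalizer hg1 hm
  -- `m⁻¹ (g m g⁻¹) ∈ M ∩ M2`
  have h1 : ∀ m ∈ M, m⁻¹ * (g * m * g⁻¹) ∈ M2 M t := by
    intro m hm
    have h2 := hA _ ((S.mem_A D).mpr ⟨m, hm, rfl⟩)
    have h3 : g * m * g⁻¹ * (g * (t * m * t) * g⁻¹) = m * (t * m * t) := by
      calc g * m * g⁻¹ * (g * (t * m * t) * g⁻¹) = g * (m * (t * m * t)) * g⁻¹ := by group
        _ = m * (t * m * t) := by rw [h2]; group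
    have h4 : m⁻¹ * (g * m * g⁻¹) = t * m * t * (g * (t * m * t) * g⁻¹)⁻¹ := by
      rw [eq_mul_inv_iff_mul_eq, mul_assoc, h3, inv_mul_cancel_left]
    rw [h4]
    exact mul_mem (S.conj_mem_M2 hm) (inv_mem (conj_mem_of_mem_normalizer hg2 (S.conj_mem_M2 hm)))
  have h2 : ∀ m ∈ M, m⁻¹ * (g * m * g⁻¹) = 1 := by
    refine hom_trivial S.perf (fun m => m⁻¹ * (g * m * g⁻¹)) ?_ ?_
    · intro x hx y hy
      show (x * y)⁻¹ * (g * (x * y) * g⁻¹) = x⁻¹ * (g * x * g⁻¹) * (y⁻¹ * (g * y * g⁻¹))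
      have h3 := S.commM (inv_mem hy) (h1 x hx)
      calc (x * y)⁻¹ * (g * (x * y) * g⁻¹) = y⁻¹ * (x⁻¹ * (g * x * g⁻¹)) * (g * y * g⁻¹) := by group
        _ = _ := by rw [h3]; group
    · intro x hx y hy
      exact S.commM (mul_mem (inv_mem hx) (hM x hx)) (h1 y hy)
  intro m hm
  have h3 := h2 m hm
  calc g * m = m * (m⁻¹ * (g * m * g⁻¹)) * g := by group
    _ = m * g := by rw [h3, mul_one]

theorem Inn_A_of {A : Subgroup G} (D : Swap.Dia S A) {f : G} (hft : f * t = t * f) (h : Inn M f) : Inn A f := by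
  obtain ⟨m, hm, h1⟩ := h
  refine ⟨m * (t * m * t), (S.mem_A D).mpr ⟨m, hm, rfl⟩, fun a ha => ?_⟩
  have hf : t * f * t = f := by
    rw [← hft, mul_assoc, S.tt, mul_one]
  have h2 : ∀ x ∈ M2 M t, (t * m * t)⁻¹ * f * x = x * ((t * m * t)⁻¹ * f) := by
    intro x hx
    have h3 := S.tswap (h1 _ (S.mem_M2.mp hx))
    rw [S.tmul, S.tinv, hf] at h3
    exact h3
  have hmt := S.conj_mem_M2 hm
  have hcc := S.commM hm hmt
  have h3 : ∀ x ∈ M ⊔ M2 M t, (m * (t * m * t))⁻¹ * f * x = x * ((m * (t * m * t))⁻¹ * f) := by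
    rw [S.comm_MM_iff]
    constructor
    · intro x hx
      have e : (m * (t * m * t))⁻¹ * f = (t * m * t)⁻¹ * (m⁻¹ * f) := by group
      rw [e, mul_assoc, h1 x hx, ← mul_assoc, ← S.commM hx (inv_mem hmt), mul_assoc]
    · intro x hx
      have e : (m * (t * m * t))⁻¹ * f = m⁻¹ * ((t * m * t)⁻¹ * f) := by rw [hcc]; group
      rw [e, mul_assoc, h2 x hx, ← mul_assoc, S.commM (inv_mem hm) hx, mul_assoc]
  exact h3 a (S.A_le D ha)

theorem Inn_of_Inn_A {A : Subgroup G} (D : Swap.Dia S A) {f : G} (hf : f ∈ YZ M t) (h : Inn A f) : Inn M f := by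
  obtain ⟨a, ha, h1⟩ := h
  have h2 : a⁻¹ * f ∈ YZ M t := mul_mem (inv_mem (S.MM_le_YZ (S.A_le D ha))) hf
  have h3 := S.comm_M_of_comm_A D h2 h1
  obtain ⟨x, hx, rfl⟩ := (S.mem_A D).mp ha
  refine ⟨x, hx, fun m hm => ?_⟩
  have h4 := h3 m hm
  have hxt := S.conj_mem_M2 hx
  have e : x⁻¹ * f = t * x * t * ((x * (t * x * t))⁻¹ * f) := by
    rw [S.commM hx hxt, mul_inv_rev]
    calc x⁻¹ * f = (t * x * t) * (t * x * t)⁻¹ * x⁻¹ * f := by rw [mul_inv_cancel, one_mul]
      _ = t * x * t * (x⁻¹ * (t * x * t)⁻¹ * f) := by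
        have := S.commM (inv_mem hx) (inv_mem hxt)
        rw [mul_assoc (t * x * t) _ (x⁻¹), ← this]
        simp only [mul_assoc]
  rw [e, mul_assoc, h4, ← mul_assoc, ← S.commM hm hxt, mul_assoc]

/-- the subgroup `C_G(M M^t)` -/
theorem odd_C [Finite G] (h : OddC M t) : Odd (Nat.card (centralizer ((M ⊔ M2 M t : Subgroup G) : Set G))) := by
  classical
  set C := centralizer ((M ⊔ M2 M t : Subgroup G) : Set G) with hC
  have hmem : ∀ {x : G}, x ∈ C ↔ ∀ m ∈ M ⊔ M2 M t, x * m = m * x := by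
    intro x
    rw [hC, mem_centralizer_iff]
    exact ⟨fun h m hm => (h m hm).symm, fun h m hm => (h m hm).symm⟩
  have htC : ∀ {x : G}, x ∈ C → t * x * t ∈ C := by
    intro x hx
    rw [hmem] at hx ⊢
    intro m hm
    exact S.tswap (hx _ (S.t_MM hm))
  have := Fintype.ofFinite C
  have h1 := card_mod_two (α := C) (fun x => x⁻¹) (fun x => inv_inv x)
  have := Fintype.ofFinite {x : C // x⁻¹ = x}
  have key : ∀ x : {x : C // x⁻¹ = x}, (⟨t * (x.1 : G) * t, htC x.1.2⟩ : C)⁻¹ = ⟨t * (x.1 : G) * t, htC x.1.2⟩ := by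
    rintro ⟨x, hx⟩
    apply Subtype.ext
    show (t * (x : G) * t)⁻¹ = t * (x : G) * t
    rw [← S.tinv]
    have : (x : G)⁻¹ = x := congrArg Subtype.val hx
    rw [this]
  have h2 := card_mod_two (α := {x : C // x⁻¹ = x}) (fun x => ⟨⟨t * (x.1 : G) * t, htC x.1.2⟩, key x⟩)
    (fun x => Subtype.ext (Subtype.ext (S.tconj _)))
  have h3 : Fintype.card {x : {x : C // x⁻¹ = x} // (⟨⟨t * (x.1 : G) * t, htC x.1.2⟩, key x⟩ : {x : C // x⁻¹ = x}) = x} = 1 := by
    rw [Fintype.card_eq_one_iff]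
    refine ⟨⟨⟨1, inv_one⟩, ?_⟩, ?_⟩
    · apply Subtype.ext
      apply Subtype.ext
      show t * ((1 : C) : G) * t = ((1 : C) : G)
      rw [Subgroup.coe_one, mul_one, S.tt]
    · rintro ⟨⟨⟨x, hx⟩, hxi⟩, hxt⟩
      apply Subtype.ext
      apply Subtype.ext
      apply Subtype.ext
      show x = 1
      have h4 : x⁻¹ = x := congrArg Subtype.val hxi
      have h5 : t * x * t = x := congrArg (fun z : {x : C // x⁻¹ = x} => ((z : C) : G)) hxt
      refine h x (hmem.mp hx) ?_ ?_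
      · calc x * t = t * x * t * t := by rw [h5]
          _ = t * x := by rw [mul_assoc, S.tt, mul_one]
      · calc x * x = x⁻¹ * x := by rw [h4]
          _ = 1 := inv_mul_cancel x
  rw [Nat.card_eq_fintype_card, Nat.odd_iff, h1]
  have h4 : ∀ (i j : Fintype {x : C // x⁻¹ = x}), @Fintype.card _ i = @Fintype.card _ j := fun i j => by
    rw [← @Nat.card_eq_fintype_card _ i, ← @Nat.card_eq_fintype_card _ j]
  rw [h4 _ this, h2, h3]

theorem C_eq_one [Finite G] (h : OddC M t) {x : G} (hx : ∀ m ∈ M ⊔ M2 M t, x * m = m * x) {k : ℕ}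
    (hk : x ^ 2 ^ k = 1) : x = 1 := by
  refine eq_one_of_two_odd (S.odd_C h) ?_ hk
  rw [mem_centralizer_iff]
  exact fun m hm => (hx m hm).symm

theorem eq_one_of_inf' [Finite G] (h : OddC M t) {x : G} (h1 : x ∈ M) (h2 : x ∈ M2 M t) {k : ℕ} (hk : x ^ 2 ^ k = 1) :
    x = 1 := by
  refine S.C_eq_one h (S.comm_MM_iff.mpr ⟨fun m hm => ?_, fun m hm => ?_⟩) hk
  · exact (S.commM hm h2).symm
  · exact S.commM h1 hm

end Swap

namespace Hyp

variable {L A M : Subgroup G} {t : G} {c e u : ℕ} (H : Hyp L A M t c e u) (S : Swap M t)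

include H S

theorem odd_C [Finite G] : Odd (Nat.card (centralizer ((M ⊔ M2 M t : Subgroup G) : Set G))) := S.odd_C H.oddC

theorem C_eq_one [Finite G] {x : G} (hx : ∀ m ∈ M ⊔ M2 M t, x * m = m * x) {k : ℕ} (hk : x ^ 2 ^ k = 1) : x = 1 :=
  S.C_eq_one H.oddC hx hk

/-- elements of odd order are in `L` -/
theorem odd_mem_L [Finite G] {x : G} (hx : Odd (orderOf x)) : x ∈ L := by
  have hL := H.normal
  obtain ⟨k, hk⟩ := hx
  have h0 : x ^ (2 * k + 1) = 1 := by rw [← hk]; exact pow_orderOf_eq_one x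
  have hsq : ∀ y : G, y * y ∈ L := by
    intro y
    rcases H.gen y with h | h
    · exact mul_mem h h
    · have h1 : y * t ∈ L := by
        have := hL.conj_mem _ h t
        rw [S.ti] at this
        have e : t * (t * y) * t = y * t := by
          rw [← mul_assoc, S.tt, one_mul]
        rwa [e] at this
      have h2 := mul_mem h1 h
      have e : y * t * (t * y) = y * y := by
        calc y * t * (t * y) = y * (t * t) * y := by group
          _ = _ := by rw [S.tt, mul_one]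
      rwa [e] at h2
  have h1 : x = (x ^ k * x ^ k)⁻¹ := by
    rw [eq_inv_iff_mul_eq_one, ← pow_add, ← pow_succ']
    have : k + k + 1 = 2 * k + 1 := by ring
    rw [this, h0]
  rw [h1]
  exact inv_mem (hsq _)

theorem M_le_L : M ≤ L := by
  have hL := H.normal
  rw [← S.perf, Subgroup.commutator_le]
  intro x hx y hy
  have hc : ∀ a b : G, ⁅a, b⁆ ∈ L := by
    intro a b
    have hab : ∀ a b : G, a ∉ L → b ∉ L → a * b ∈ L := by
      intro a b ha hb
      have h1 := (H.gen a).resolve_left ha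
      have h2 := (H.gen b).resolve_left hb
      have h3 := hL.conj_mem _ h1 t
      have h4 := mul_mem h3 h2
      have e : t * (t * a) * t⁻¹ * (t * b) = a * b := by
        calc t * (t * a) * t⁻¹ * (t * b) = (t * t) * a * b := by group
          _ = a * b := by rw [S.tt, one_mul]
      rwa [e] at h4
    have hinv : ∀ a : G, a ∉ L → a⁻¹ ∉ L := fun a ha h => ha (by
      have := inv_mem h
      rwa [inv_inv] at this)
    rw [commutatorElement_def]
    by_cases ha : a ∈ L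
    · have e : a * b * a⁻¹ * b⁻¹ = a * (b * a⁻¹ * b⁻¹) := by group
      rw [e]
      exact mul_mem ha (hL.conj_mem _ (inv_mem ha) b)
    · by_cases hb : b ∈ L
      · exact mul_mem (hL.conj_mem _ hb a) (inv_mem hb)
      · have e : a * b * a⁻¹ * b⁻¹ = (a * b) * (a⁻¹ * b⁻¹) := by group
        rw [e]
        exact mul_mem (hab _ _ ha hb) (hab _ _ (hinv _ ha) (hinv _ hb))
  exact hc x y

theorem MM_le_L : M ⊔ M2 M t ≤ L := by
  have hL := H.normal
  refine sup_le (H.M_le_L S) ?_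
  rintro _ ⟨x, hx, rfl⟩
  exact hL.conj_mem _ (H.M_le_L S hx) t

theorem I_le_L [Finite G] : I1 M t ⊓ I2 M t ≤ L := by
  intro i hi
  obtain ⟨a, ha, b, hb, c, hc, rfl⟩ := S.exists_of_mem_I (mem_inf.mp hi).1 (mem_inf.mp hi).2
  refine mul_mem (H.MM_le_L S (mul_mem (mem_sup_left ha) (mem_sup_right hb))) (H.odd_mem_L S ?_)
  have h1 : c ∈ centralizer ((M ⊔ M2 M t : Subgroup G) : Set G) := by
    rw [mem_centralizer_iff]
    exact fun m hm => (hc m hm).symm
  exact Odd.of_dvd_nat (H.odd_C S) (Subgroup.orderOf_dvd_natCard _ h1)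

/-- **(tI)** -/
theorem exists_tI [Finite G] {i : G} (hi : i ∈ I1 M t ⊓ I2 M t) (h : t * i * (t * i) = 1) :
    ∃ j ∈ I1 M t ⊓ I2 M t, j⁻¹ * t * j = t * i := by
  obtain ⟨a, ha, b, hb, c, hc, rfl⟩ := S.exists_of_mem_I (mem_inf.mp hi).1 (mem_inf.mp hi).2
  set C := centralizer ((M ⊔ M2 M t : Subgroup G) : Set G) with hC
  have hmem : ∀ {x : G}, x ∈ C ↔ ∀ m ∈ M ⊔ M2 M t, x * m = m * x := by
    intro x
    rw [hC, mem_centralizer_iff]
    exact ⟨fun h m hm => (h m hm).symm, fun h m hm => (h m hm).symm⟩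
  have htC : ∀ {x : G}, x ∈ C → t * x * t ∈ C := by
    intro x hx
    rw [hmem] at hx ⊢
    intro m hm
    exact S.tswap (hx _ (S.t_MM hm))
  have hcC := hmem.mpr hc
  -- `c' = a^t b c`, `i = a (a^t)⁻¹ c'`
  have hat := S.conj_mem_M2 ha
  have hbt := S.mem_M2.mp hb
  set c' := t * a * t * b * c with hc'
  have hi' : a * b * c = a * (t * a * t)⁻¹ * c' := by rw [hc']; group
  have hmul : t * (a * b * c) * t * (a * b * c) = 1 := by
    calc t * (a * b * c) * t * (a * b * c) = t * (a * b * c) * (t * (a * b * c)) := by group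
      _ = 1 := h
  have htc := htC hcC
  have hbta : t * b * t * a ∈ M := mul_mem hbt ha
  have hatb : t * a * t * b ∈ M2 M t := mul_mem hat hb
  have hz : (t * b * t * a) * (t * a * t * b) * (t * c * t * c) = 1 := by
    have e1 := hmem.mp htc (a * b) (mul_mem (mem_sup_left ha) (mem_sup_right hb))
    have e2 := S.commM hbt hat
    have e3 := S.commM ha hat
    rw [← hmul, S.tmul, S.tmul]
    calc t * b * t * a * (t * a * t * b) * (t * c * t * c)
        = t * b * t * (a * (t * a * t)) * b * (t * c * t) * c := by group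
      _ = (t * b * t) * (t * a * t) * ((a * b) * (t * c * t)) * c := by rw [e3]; group
      _ = (t * a * t) * (t * b * t) * ((t * c * t) * (a * b)) * c := by rw [e2, e1]
      _ = _ := by group
  -- `t b t a` centralizes `M`
  have hz1 : ∀ m ∈ M ⊔ M2 M t, (t * b * t * a) * m = m * (t * b * t * a) := by
    have h0 : t * b * t * a = ((t * a * t * b) * (t * c * t * c))⁻¹ := by
      rw [eq_inv_iff_mul_eq_one, ← mul_assoc]; exact hz
    rw [S.comm_MM_iff]
    constructor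
    · intro m hm
      have h1 : (t * a * t * b) * (t * c * t * c) * m = m * ((t * a * t * b) * (t * c * t * c)) := by
        have h2 := hmem.mp (mul_mem htc hcC) m (mem_sup_left hm)
        rw [mul_assoc, h2, ← mul_assoc, ← S.commM hm hatb, mul_assoc]
      rw [h0, inv_mul_eq_iff_eq_mul, ← mul_assoc, h1, mul_inv_cancel_right]
    · intro m hm
      exact S.commM hbta hm
  have hc'C : c' ∈ C := by
    have h1 := htC (hmem.mpr hz1)
    have e : t * (t * b * t * a) * t = b * (t * a * t) := by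
      rw [S.tmul, S.tconj]
    rw [e] at h1
    -- `b a^t` centralizes `a`, hence `a^t b = b a^t`
    have h2 : t * a * t * b = b * (t * a * t) := by
      have h3 := hmem.mp h1 _ (mem_sup_right hat)
      have h4 : b * (t * a * t) * (t * a * t) = t * a * t * b * (t * a * t) := by
        rw [h3]; group
      exact (mul_right_cancel h4).symm
    rw [hc', h2]
    exact mul_mem h1 hcC
  have htc' := htC hc'C
  have hinv : t * c' * t * c' = 1 := by
    have h1 := hmul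
    rw [hi', S.tmul, S.tmul, S.tinv, S.tconj] at h1
    have h2 := hmem.mp htc' (a * (t * a * t)⁻¹) (mul_mem (mem_sup_left ha) (mem_sup_right (inv_mem hat)))
    have h3 : (t * a * t) * a⁻¹ * (a * (t * a * t)⁻¹) * (t * c' * t * c') = 1 := by
      rw [← h1]
      calc (t * a * t) * a⁻¹ * (a * (t * a * t)⁻¹) * (t * c' * t * c')
          = (t * a * t) * a⁻¹ * ((a * (t * a * t)⁻¹) * (t * c' * t)) * c' := by group
        _ = (t * a * t) * a⁻¹ * ((t * c' * t) * (a * (t * a * t)⁻¹)) * c' := by rw [h2]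
        _ = _ := by group
    have e : (t * a * t) * a⁻¹ * (a * (t * a * t)⁻¹) = 1 := by group
    rwa [e, one_mul] at h3
  -- square root
  have hodd : Odd (orderOf c') := Odd.of_dvd_nat (H.odd_C S) (Subgroup.orderOf_dvd_natCard _ hc'C)
  obtain ⟨k, hk⟩ := hodd
  set d := c' ^ (k + 1) with hd
  have hdd : d * d = c' := by
    rw [hd, ← pow_add]
    have : k + 1 + (k + 1) = orderOf c' + 1 := by omega
    rw [this, pow_succ, pow_orderOf_eq_one, one_mul]
  have hdC : d ∈ C := pow_mem hc'C _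
  have htpow : ∀ n : ℕ, t * c' ^ n * t = (t * c' * t) ^ n := by
    intro n
    induction n with
    | zero => rw [pow_zero, pow_zero, mul_one, S.tt]
    | succ n ih => rw [pow_succ, S.tmul, ih, pow_succ]
  have hdt : t * d * t = d⁻¹ := by
    rw [hd, htpow, eq_inv_of_mul_eq_one_left hinv, inv_pow]
  refine ⟨a * d, mul_mem (S.MM_le_I (mem_sup_left ha)) (S.comm_mem_I (hmem.mp hdC)), ?_⟩
  have h1 : (a * d)⁻¹ * t * (a * d) = t * ((t * (a * d)⁻¹ * t) * (a * d)) := by
    calc (a * d)⁻¹ * t * (a * d) = (t * t) * (a * d)⁻¹ * t * (a * d) := by rw [S.tt, one_mul]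
      _ = _ := by group
  rw [h1, hi', S.tinv, S.tmul, hdt]
  congr 1
  have h2 := hmem.mp hdC (a : G) (mem_sup_left ha)
  have h3 := hmem.mp hdC ((t * a * t)⁻¹ * a) (mul_mem (mem_sup_right (inv_mem hat)) (mem_sup_left ha))
  have h4 := S.commM ha (inv_mem hat)
  calc (t * a * t * d⁻¹)⁻¹ * (a * d) = d * ((t * a * t)⁻¹ * a) * d := by group
    _ = (t * a * t)⁻¹ * a * (d * d) := by rw [h3, mul_assoc]
    _ = a * (t * a * t)⁻¹ * c' := by rw [hdd, h4]

theorem t_not_YZ : t ∉ YZ M t := by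
  have := H.F1 1
  rwa [inv_one, one_mul, mul_one] at this

theorem fix [Finite G] (D : Swap.Dia S A) (g : G) (hg : g⁻¹ * t * g ∈ YY M t) : g ∈ YY M t := by
  rcases S.YY_or hg with h | h
  · exact absurd h (H.F1 g)
  · obtain ⟨v, hv, hvv, hvc⟩ := H.inv
    have h1 := S.swap_of h
    have h2 : ∀ m ∈ M ⊔ M2 M t, g⁻¹ * m * g⁻¹⁻¹ ∈ M ⊔ M2 M t := fun m hm => by
      rw [inv_inv]
      exact S.mem_normalizer_MM D hv hvv hvc h1 hm
    have h3 := mem_normalizer_of_conj_le h2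
    have h4 := inv_mem h3
    rwa [inv_inv] at h4

/-- (o1) for `M^t` -/
theorem o1' [Finite G] {f : G} (hf : f ∈ YZ M t) (hff : f * f = 1) (hft : f * t = t * f) (hf1 : f ∉ I1 M t)
    (R : Subgroup G) (hR : IsPGroup 2 R) (h : ∀ r ∈ R, Inn (M2 M t) r ∧ r * f = f * r) :
    Nat.card R ≤ c * Nat.card (R ⊓ centralizer (M2 M t : Set G) : Subgroup G) := by
  have hf' : t * f * t = f := by rw [← hft, mul_assoc, S.tt, mul_one]
  have h1 := H.o1 f (mem_inf.mp hf).1 hff (fun h => hf1 ⟨hf, h⟩) (R.map (MulAut.conj t).toMonoidHom) (hR.map _) ?_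
  · have e1 : Nat.card (R.map (MulAut.conj t).toMonoidHom) = Nat.card R :=
      (Nat.card_congr (R.equivMapOfInjective (MulAut.conj t).toMonoidHom (MulAut.conj t).injective).toEquiv).symm
    have e2 : Nat.card (R.map (MulAut.conj t).toMonoidHom ⊓ centralizer (M : Set G) : Subgroup G)
        ≤ Nat.card (R ⊓ centralizer (M2 M t : Set G) : Subgroup G) := by
      have h3 : (R.map (MulAut.conj t).toMonoidHom ⊓ centralizer (M : Set G) : Subgroup G)
          ≤ (R ⊓ centralizer (M2 M t : Set G) : Subgroup G).map (MulAut.conj t).toMonoidHom := by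
        rintro _ ⟨⟨r, hr, rfl⟩, hc⟩
        refine ⟨r, mem_inf.mpr ⟨hr, ?_⟩, rfl⟩
        rw [mem_centralizer_iff]
        intro m hm
        have h4 := mem_centralizer_iff.mp hc _ (S.mem_M2.mp hm)
        have h5 : t * m * t * (t * r * t) = t * r * t * (t * m * t) := by
          have h6 : (MulAut.conj t).toMonoidHom r = t * r * t := by
            show t * r * t⁻¹ = _
            rw [S.ti]
          rwa [h6] at h4
        rw [← S.tmul, ← S.tmul] at h5
        exact mul_left_cancel (mul_right_cancel h5)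
      refine (Subgroup.card_le_of_le h3).trans ?_
      exact (Nat.card_congr ((R ⊓ centralizer (M2 M t : Set G) : Subgroup G).equivMapOfInjective
        (MulAut.conj t).toMonoidHom (MulAut.conj t).injective).toEquiv).symm.le
    rw [e1] at h1
    exact h1.trans (Nat.mul_le_mul_left _ e2)
  · rintro _ ⟨r, hr, rfl⟩
    have h6 : (MulAut.conj t).toMonoidHom r = t * r * t := by
      show t * r * t⁻¹ = _
      rw [S.ti]
    rw [h6]
    refine ⟨S.Inn_M (h r hr).1, ?_⟩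
    have h7 := (h r hr).2
    calc t * r * t * f = t * r * t * (t * f * t) := by rw [hf']
      _ = t * (r * f) * t := (S.tmul _ _).symm
      _ = t * (f * r) * t := by rw [h7]
      _ = t * f * t * (t * r * t) := S.tmul _ _
      _ = f * (t * r * t) := by rw [hf']

theorem ind1 : ∀ x ∈ YZ M t, ∀ y ∈ YZ M t, x ∉ I1 M t → y ∉ I1 M t → x * y ∈ I1 M t := by
  intro x hx y hy hx1 hy1
  exact ⟨mul_mem hx hy, H.ind x (mem_inf.mp hx).1 y (mem_inf.mp hy).1 (fun h => hx1 ⟨hx, h⟩) (fun h => hy1 ⟨hy, h⟩)⟩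

theorem ind2 : ∀ x ∈ YZ M t, ∀ y ∈ YZ M t, x ∉ I2 M t → y ∉ I2 M t → x * y ∈ I2 M t := by
  intro x hx y hy hx1 hy1
  have h1 : ∀ {x : G}, x ∈ YZ M t → x ∉ I2 M t → t * x * t ∉ I1 M t := by
    intro x _ hx1 h
    apply hx1
    have := S.t_I1 h
    rwa [S.tconj] at this
  have h2 := S.t_I1 (H.ind1 S _ (S.t_YZ hx) _ (S.t_YZ hy) (h1 hx hx1) (h1 hy hy1))
  rwa [← S.tmul, S.tconj] at h2

/-- the order of 2-subgroups of `C(f)` containing `t` -/
theorem card_le [Finite G] (D : Swap.Dia S A) {f : G} (hf : f ∈ YZ M t) (hff : f * f = 1) (hft : f * t = t * f)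
    (hf1 : f ∉ I1 M t) {T : Subgroup G} (hT : IsPGroup 2 T) (htT : t ∈ T) (hTf : ∀ x ∈ T, x * f = f * x) :
    Nat.card T ≤ 8 * (c * c) := by
  have hTY : T ≤ YY M t := le_of_fix (H.fix S D) hT htT S.t_mem_YY
  have h1 : Nat.card T ≤ 2 * Nat.card (T ⊓ YZ M t : Subgroup G) := by
    apply card_le_two
    intro x hx y hy hx0 hy0
    have h2 := (S.YY_or (hTY hx)).resolve_left hx0
    have h3 := (S.YY_or (hTY hy)).resolve_left hy0
    have h4 := mul_mem (S.t_YZ h2) h3
    have e : t * (t * x) * t * (t * y) = x * y := by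
      calc t * (t * x) * t * (t * y) = (t * t) * x * (t * t) * y := by group
        _ = x * y := by rw [S.tt]; group
    rwa [e] at h4
  have h2 : Nat.card (T ⊓ YZ M t : Subgroup G) ≤ 2 * Nat.card (T ⊓ YZ M t ⊓ I1 M t : Subgroup G) := by
    apply card_le_two
    intro x hx y hy hx0 hy0
    exact H.ind1 S x (mem_inf.mp hx).2 y (mem_inf.mp hy).2 hx0 hy0
  have h3 : Nat.card (T ⊓ YZ M t ⊓ I1 M t : Subgroup G) ≤ 2 * Nat.card (T ⊓ YZ M t ⊓ I1 M t ⊓ I2 M t : Subgroup G) := by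
    apply card_le_two
    intro x hx y hy hx0 hy0
    exact H.ind2 S x (mem_inf.mp (mem_inf.mp hx).1).2 y (mem_inf.mp (mem_inf.mp hy).1).2 hx0 hy0
  set R := T ⊓ YZ M t ⊓ I1 M t ⊓ I2 M t with hR
  have hRT : R ≤ T := inf_le_left.trans (inf_le_left.trans inf_le_left)
  have h2R : IsPGroup 2 R := hT.to_le hRT
  have h4 := H.o1 f (mem_inf.mp hf).1 hff (fun h => hf1 ⟨hf, h⟩) R h2R
    (fun r hr => ⟨(mem_inf.mp (mem_inf.mp hr).1).2.2, hTf r (hRT hr)⟩)
  have h5 := H.o1' S hf hff hft hf1 (R ⊓ centralizer (M : Set G)) (h2R.to_le inf_le_left)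
    (fun r hr => ⟨(mem_inf.mp (mem_inf.mp hr).1).2.2, hTf r (hRT (mem_inf.mp hr).1)⟩)
  have h6 : (R ⊓ centralizer (M : Set G) ⊓ centralizer (M2 M t : Set G) : Subgroup G) = ⊥ := by
    rw [eq_bot_iff]
    intro x hx
    rw [mem_bot]
    obtain ⟨k, hk⟩ := h2R ⟨x, (mem_inf.mp (mem_inf.mp hx).1).1⟩
    refine H.C_eq_one S (S.comm_MM_iff.mpr ⟨fun m hm => ?_, fun m hm => ?_⟩) (k := k) ?_
    · exact (mem_centralizer_iff.mp (mem_inf.mp (mem_inf.mp hx).1).2 m hm).symm
    · exact (mem_centralizer_iff.mp (mem_inf.mp hx).2 m hm).symm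
    · exact congrArg Subtype.val hk
  rw [h6, Subgroup.card_bot, mul_one] at h5
  have h7 : Nat.card R ≤ c * c := h4.trans (Nat.mul_le_mul_left _ h5)
  omega

/-- the order of a 2-subgroup of `C(y)` for `y` in `I₂ ∖ I₁` -/
theorem exists_big [Finite G] {y : G} (hy : y ∈ YZ M t) (hyy : y * y = 1) (hy1 : y ∉ I1 M t) (hy2 : y ∈ I2 M t) :
    ∃ K : Subgroup G, IsPGroup 2 K ∧ (∀ x ∈ K, x * y = y * x) ∧ 2 * (e * u) ≤ Nat.card K := by
  obtain ⟨E, hEM, hEs, hEy, hEc⟩ := H.o2 y (mem_inf.mp hy).1 hyy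
  have hE2 : IsPGroup 2 E := isPGroup_of_sq hEs
  have hyt : t * y * t * (t * y * t) = 1 := by rw [← S.tmul, hyy, mul_one, S.tt]
  obtain ⟨U', hUM', hU2', hUy', hUc'⟩ := H.o3 (t * y * t) (mem_inf.mp (S.t_YZ hy)).1 hyt (S.t_I2 hy2).2
  set U : Subgroup G := U'.map (MulAut.conj t).toMonoidHom with hU
  have hUM : U ≤ M2 M t := Subgroup.map_mono hUM'
  have hU2 : IsPGroup 2 U := hU2'.map _
  have hUc : u ≤ Nat.card U := by
    refine hUc'.trans (le_of_eq ?_)
    exact Nat.card_congr (U'.equivMapOfInjective (MulAut.conj t).toMonoidHom (MulAut.conj t).injective).toEquiv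
  have hUy : ∀ x ∈ U, x * y = y * x := by
    rintro _ ⟨x, hx, rfl⟩
    have h6 : (MulAut.conj t).toMonoidHom x = t * x * t := by
      show t * x * t⁻¹ = _
      rw [S.ti]
    rw [h6]
    exact S.tswap (hUy' x hx)
  have hdis : Disjoint E U := by
    rw [disjoint_iff, eq_bot_iff]
    intro x hx
    obtain ⟨k, hk⟩ := hE2 ⟨x, (mem_inf.mp hx).1⟩
    have hxM := hEM (mem_inf.mp hx).1
    have hxM2 := hUM (mem_inf.mp hx).2
    refine H.C_eq_one S (S.comm_MM_iff.mpr ⟨fun m hm => ?_, fun m hm => ?_⟩) (k := k) (congrArg Subtype.val hk)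
    · exact (S.commM hm hxM2).symm
    · exact S.commM hxM hm
  have hnorm : U ≤ normalizer (E : Set G) := by
    intro w hw
    rw [mem_normalizer_iff]
    intro x
    constructor
    · intro hx
      rw [← S.commM (hEM hx) (hUM hw), mul_inv_cancel_right]
      exact hx
    · intro hx
      have h1 := S.commM (hEM hx) (hUM hw)
      have h2 : w * x * w⁻¹ = x := by
        have : w * (w * x * w⁻¹) = w * x := by rw [← h1]; group
        exact mul_left_cancel this
      rwa [h2] at hx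
  have hK0 : IsPGroup 2 (E ⊔ U : Subgroup G) := hE2.to_sup_of_normal_left' hU2 hnorm
  have hK0MM : E ⊔ U ≤ M ⊔ M2 M t := sup_le_sup hEM hUM
  have hK0y : ∀ x ∈ E ⊔ U, x * y = y * x := by
    intro x hx
    have h1 : E ⊔ U ≤ centralizer ({y} : Set G) := by
      refine sup_le (fun x hx => ?_) (fun x hx => ?_)
      · rw [mem_centralizer_singleton_iff]; exact hEy x hx
      · rw [mem_centralizer_singleton_iff]; exact hUy x hx
    exact mem_centralizer_singleton_iff.mp (h1 hx)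
  have hK0c : e * u ≤ Nat.card (E ⊔ U : Subgroup G) :=
    (Nat.mul_le_mul hEc hUc).trans (card_mul_le le_sup_left le_sup_right hdis)
  have hy0 : y ∉ E ⊔ U := fun h => hy1 (mem_inf.mp (S.MM_le_I (hK0MM h))).1
  have hzy : IsPGroup 2 (zpowers y) := by
    have : Fact (Nat.Prime 2) := ⟨Nat.prime_two⟩
    apply IsPGroup.of_card (n := 1)
    rw [Nat.card_zpowers, pow_one]
    apply orderOf_eq_prime
    · rw [pow_two]; exact hyy
    · rintro rfl
      exact hy0 (one_mem _)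
  have hcz : Nat.card (zpowers y) = 2 := by
    rw [Nat.card_zpowers]
    have : Fact (Nat.Prime 2) := ⟨Nat.prime_two⟩
    apply orderOf_eq_prime
    · rw [pow_two]; exact hyy
    · rintro rfl
      exact hy0 (one_mem _)
  have hmz : ∀ {x : G}, x ∈ zpowers y → x = 1 ∨ x = y := by
    rintro _ ⟨n, rfl⟩
    rcases Int.even_or_odd' n with ⟨k, rfl | rfl⟩
    · left
      show y ^ (2 * k) = 1
      rw [zpow_mul, zpow_ofNat, pow_two, hyy, one_zpow]
    · right
      show y ^ (2 * k + 1) = y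
      rw [zpow_add, zpow_mul, zpow_ofNat, pow_two, hyy, one_zpow, one_mul, zpow_one]
  have hdis2 : Disjoint (E ⊔ U) (zpowers y) := by
    rw [disjoint_iff, eq_bot_iff]
    intro x hx
    rcases hmz (mem_inf.mp hx).2 with h | h
    · exact h
    · exact absurd (h ▸ (mem_inf.mp hx).1) hy0
  have hnorm2 : zpowers y ≤ normalizer ((E ⊔ U : Subgroup G) : Set G) := by
    rw [zpowers_le, mem_normalizer_iff]
    intro x
    constructor
    · intro hx
      rw [← hK0y x hx, mul_inv_cancel_right]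
      exact hx
    · intro hx
      have h1 := hK0y _ hx
      have h2 : y * x * y⁻¹ = x := by
        have : y * (y * x * y⁻¹) = y * x := by rw [← h1]; group
        exact mul_left_cancel this
      rwa [h2] at hx
  refine ⟨E ⊔ U ⊔ zpowers y, hK0.to_sup_of_normal_left' hzy hnorm2, ?_, ?_⟩
  · intro x hx
    have h1 : E ⊔ U ⊔ zpowers y ≤ centralizer ({y} : Set G) := by
      refine sup_le (fun x hx => ?_) (fun x hx => ?_)
      · rw [mem_centralizer_singleton_iff]; exact hK0y x hx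
      · rw [mem_centralizer_singleton_iff]
        rcases hmz hx with rfl | rfl
        · rw [one_mul, mul_one]
        · rfl
    exact mem_centralizer_singleton_iff.mp (h1 hx)
  · have h1 := card_mul_le (C := E ⊔ U ⊔ zpowers y) le_sup_left le_sup_right hdis2
    rw [hcz] at h1
    omega

theorem conj_aux [Finite G] (D : Swap.Dia S A) {f : G} (hf : f ∈ YZ M t) (hff : f * f = 1) (hft : f * t = t * f)
    (hf1 : f ∉ I1 M t) {g : G} (hg : g⁻¹ * f * g ∈ YZ M t) (h2 : g⁻¹ * f * g ∈ I2 M t) : g⁻¹ * f * g ∈ I1 M t := by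
  by_contra h1
  set y := g⁻¹ * f * g with hy
  have hyy : y * y = 1 := by
    calc y * y = g⁻¹ * (f * f) * g := by rw [hy]; group
      _ = 1 := by rw [hff]; group
  obtain ⟨K, hK2, hKy, hKc⟩ := H.exists_big S hg hyy h1 h2
  -- `⟨t⟩ ≤ T` Sylow in `C(f)`
  have ht2 : IsPGroup 2 (zpowers t) := by
    rintro ⟨x, n, rfl⟩
    refine ⟨1, Subtype.ext ?_⟩
    show (t ^ n) ^ 2 ^ 1 = 1
    rw [pow_one, ← zpow_natCast, ← zpow_mul, mul_comm, zpow_mul]
    rw [zpow_natCast, pow_two, S.tt, one_zpow]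
  have htf : zpowers t ≤ centralizer ({f} : Set G) := by
    rw [zpowers_le, mem_centralizer_singleton_iff]
    exact hft.symm
  obtain ⟨T, hTs, htT⟩ := exists_isSyl ht2 htf
  have h3 := H.card_le S D hf hff hft hf1 hTs.two (htT (mem_zpowers t))
    (fun x hx => mem_centralizer_singleton_iff.mp (hTs.le hx))
  have h4 : Nat.card (K.map (MulAut.conj g).toMonoidHom) ≤ Nat.card T := by
    apply hTs.card_le (hK2.map _)
    rintro _ ⟨x, hx, rfl⟩
    show g * x * g⁻¹ ∈ _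
    rw [mem_centralizer_singleton_iff]
    have h5 := hKy x hx
    have h6 : f = g * y * g⁻¹ := by rw [hy]; group
    rw [h6]
    calc g * x * g⁻¹ * (g * y * g⁻¹) = g * (x * y) * g⁻¹ := by group
      _ = g * (y * x) * g⁻¹ := by rw [h5]
      _ = _ := by group
  have h5 : Nat.card (K.map (MulAut.conj g).toMonoidHom) = Nat.card K :=
    (Nat.card_congr (K.equivMapOfInjective (MulAut.conj g).toMonoidHom (MulAut.conj g).injective).toEquiv).symm
  have h6 := H.num
  omega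

theorem conj [Finite G] (D : Swap.Dia S A) {f : G} (hf : f ∈ YZ M t) (hff : f * f = 1) (hft : f * t = t * f)
    (hf1 : f ∉ I1 M t) {g : G} (hg : g⁻¹ * f * g ∈ YZ M t) : g⁻¹ * f * g ∈ I1 M t ↔ g⁻¹ * f * g ∈ I2 M t := by
  constructor
  · intro h
    have e : (g * t)⁻¹ * f * (g * t) = t * (g⁻¹ * f * g) * t := by rw [mul_inv_rev, S.ti]; group
    have h1 := H.conj_aux S D hf hff hft hf1 (g := g * t) (by rw [e]; exact S.t_YZ hg) (by rw [e]; exact S.t_I1 h)
    rw [e] at h1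
    have h2 := S.t_I1 h1
    rwa [S.tconj] at h2
  · exact H.conj_aux S D hf hff hft hf1 hg

theorem ex [Finite G] (D : Swap.Dia S A) (htL : t ∉ L) (h : ∃ y ∈ YZ M t, y ∉ I1 M t ⊓ I2 M t) :
    ∃ f ∈ YZ M t, f * f = 1 ∧ f * t = t * f ∧ f ∉ I1 M t := by
  -- an element `z` outside `I₁ ∪ I₂`
  obtain ⟨z, hz, hz1, hz2⟩ : ∃ z ∈ YZ M t, z ∉ I1 M t ∧ z ∉ I2 M t := by
    have key : ∀ y ∈ YZ M t, y ∉ I1 M t → y ∈ I2 M t → ∃ z ∈ YZ M t, z ∉ I1 M t ∧ z ∉ I2 M t := by
      intro y hy hy1 hy2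
      refine ⟨y * (t * y * t), mul_mem hy (S.t_YZ hy), fun h1 => hy1 ?_, fun h1 => ?_⟩
      · have h2 := mul_mem h1 (inv_mem (S.t_I2 hy2))
        rwa [mul_inv_cancel_right] at h2
      · have h2 := mul_mem (inv_mem hy2) h1
        rw [inv_mul_cancel_left] at h2
        have h3 := S.t_I2 h2
        rw [S.tconj] at h3
        exact hy1 h3
    obtain ⟨y, hy, hyI⟩ := h
    by_cases h1 : y ∈ I1 M t
    · have h2 : y ∉ I2 M t := fun h => hyI (mem_inf.mpr ⟨h1, h⟩)
      have h3 : t * y * t ∉ I1 M t := fun h => h2 (by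
        have := S.t_I1 h
        rwa [S.tconj] at this)
      exact key _ (S.t_YZ hy) h3 (S.t_I1 h1)
    · by_cases h2 : y ∈ I2 M t
      · exact key y hy h1 h2
      · exact ⟨y, hy, h1, h2⟩
  -- `t^z = t i`
  set i := (t * z * t)⁻¹ * z with hi
  have hzt1 : t * z * t ∉ I1 M t := fun h => hz2 (by
    have := S.t_I1 h
    rwa [S.tconj] at this)
  have hzt2 : t * z * t ∉ I2 M t := fun h => hz1 (by
    have := S.t_I2 h
    rwa [S.tconj] at this)
  have hni : ∀ {K : Subgroup G} {x : G}, x ∉ K → x⁻¹ ∉ K := fun {K x} hx h => hx (by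
    have := inv_mem h
    rwa [inv_inv] at this)
  have hi1 : i ∈ I1 M t := H.ind1 S _ (inv_mem (S.t_YZ hz)) _ hz (hni hzt1) hz1
  have hi2 : i ∈ I2 M t := H.ind2 S _ (inv_mem (S.t_YZ hz)) _ hz (hni hzt2) hz2
  have hti : t * i = z⁻¹ * t * z := by
    rw [hi, ← S.tinv]
    calc t * (t * z⁻¹ * t * z) = (t * t) * z⁻¹ * t * z := by group
      _ = _ := by rw [S.tt, one_mul]
  have hsq : t * i * (t * i) = 1 := by
    rw [hti]
    calc z⁻¹ * t * z * (z⁻¹ * t * z) = z⁻¹ * (t * t) * z := by group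
      _ = 1 := by rw [S.tt]; group
  obtain ⟨j, hj, hjt⟩ := H.exists_tI S (mem_inf.mpr ⟨hi1, hi2⟩) hsq
  set c' := z * j⁻¹ with hc'
  have hct : c' * t = t * c' := by
    rw [hti] at hjt
    -- `j⁻¹ t j = z⁻¹ t z`
    have h1 : z * (j⁻¹ * t * j) * z⁻¹ = t := by rw [hjt]; group
    calc c' * t = z * (j⁻¹ * t * j) * z⁻¹ * (z * j⁻¹) := by rw [hc']; group
      _ = t * c' := by rw [h1]
  have hj1 : j ∈ I1 M t := (mem_inf.mp hj).1
  have hc1 : c' ∉ I1 M t := fun h => hz1 (by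
    have := mul_mem h hj1
    rwa [hc', inv_mul_cancel_right] at this)
  have hcYZ : c' ∈ YZ M t := mul_mem hz (inv_mem hj1.1)
  obtain ⟨f, hft, hff, hfA⟩ := H.invf htL ⟨c', hct, fun h => hc1 ⟨hcYZ, S.Inn_of_Inn_A D hcYZ h⟩⟩
  have hfY : f ∈ YY M t := by
    apply H.fix S D
    have e : f⁻¹ * t * f = t := by rw [mul_assoc, ← hft]; group
    rw [e]
    exact S.t_mem_YY
  have hA1 : ∀ {f : G}, f ∈ YZ M t → f * t = t * f → ¬ Inn A f → f ∉ I1 M t :=
    fun {f} _ hft hfA h => hfA (S.Inn_A_of D hft h.2)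
  rcases S.YY_or hfY with h | h
  · exact ⟨f, h, hff, hft, hA1 h hft hfA⟩
  · refine ⟨t * f, h, ?_, ?_, hA1 h ?_ ?_⟩
    · calc t * f * (t * f) = t * (f * t) * f := by group
        _ = t * t * (f * f) := by rw [hft]; group
        _ = 1 := by rw [S.tt, hff, one_mul]
    · rw [mul_assoc, hft]
    · rw [mul_assoc, hft]
    · intro h2
      apply hfA
      obtain ⟨m, hm, h3⟩ := h2
      refine ⟨m, hm, fun x hx => ?_⟩
      have h4 := h3 x hx
      have h5 : m⁻¹ * (t * f) = t * (m⁻¹ * f) := by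
        have h6 := S.A_comm_t D (inv_mem hm)
        rw [← mul_assoc, h6, mul_assoc]
      rw [h5, mul_assoc, ← mul_assoc x, S.A_comm_t D hx, mul_assoc t x] at h4
      exact mul_left_cancel h4

/-- **the configuration** -/
theorem conf2 [Finite G] (D : Swap.Dia S A) : Conf2 L (YY M t) (YZ M t) (I1 M t) (I2 M t) t where
  normal := H.normal
  perf := H.perf
  gen := H.gen
  tt := S.tt
  tY := S.t_mem_YY
  tY0 := H.t_not_YZ S
  Y0_le := S.YZ_le
  Y_or := fun y hy => S.YY_or hy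
  t_Y0 := fun y hy => S.t_YZ hy
  I1_le := fun y hy => hy.1
  I2_le := fun y hy => hy.1
  t_I1 := fun y hy => S.t_I1 hy
  t_I2 := fun y hy => S.t_I2 hy
  ind1 := H.ind1 S
  fix := H.fix S D
  IL := H.I_le_L S
  conj := fun f hf hff hft hf1 g hg => H.conj S D hf hff hft hf1 hg
  ex := H.ex S D

end Hyp

end Cfsg.Agent.SwapEnd
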