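import Cfsg.Agent.SwapEnd.Kill

/-!
# Two commuting subgroups `M`, `M^t` and the diagonal subgroup

`(M1)`: if `u = g⁻¹ t g` swaps `M` and `M^t`, then `g⁻¹ A g ≤ M M^t`.
`(H)`: then `g` normalizes `M M^t`.
-/

set_option autoImplicit false

namespace Cfsg.Agent.SwapEnd

open Subgroup
open scoped commutatorElement

variable {G : Type*} [Group G]

/-- `M^t`. -/
def M2 (M : Subgroup G) (t : G) : Subgroup G := M.map (MulAut.conj t).toMonoidHom

/-- `M` commutes with `M^t`; `M` is "quasisimple". -/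
structure Swap (M : Subgroup G) (t : G) : Prop where
  tt : t * t = 1
  comm : ∀ x ∈ M, ∀ y ∈ M, x * (t * y * t) = t * y * t * x
  perf : ⁅M, M⁆ = M
  two : M ≤ closure {x | x ∈ M ∧ ∃ k : ℕ, x ^ 2 ^ k = 1}
  qs : ∀ N ≤ M, (∀ m ∈ M, ∀ x ∈ N, m * x * m⁻¹ ∈ N) → N = M ∨ ∀ x ∈ N, ∀ m ∈ M, x * m = m * x
  ne : M ≠ ⊥

namespace Swap

variable {M : Subgroup G} {t : G} (S : Swap M t)

include S

theorem ti : t⁻¹ = t := inv_eq_of_mul_eq_one_left S.tt

theorem tconj (x : G) : t * (t * x * t) * t = x := by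
  calc t * (t * x * t) * t = (t * t) * x * (t * t) := by group
    _ = x := by rw [S.tt, one_mul, mul_one]

theorem mem_M2 {x : G} : x ∈ M2 M t ↔ t * x * t ∈ M := by
  constructor
  · rintro ⟨y, hy, rfl⟩
    show t * (t * y * t⁻¹) * t ∈ M
    rw [S.ti, S.tconj]
    exact hy
  · intro h
    refine ⟨_, h, ?_⟩
    show t * (t * x * t) * t⁻¹ = x
    rw [S.ti, S.tconj]

theorem conj_mem_M2 {x : G} (hx : x ∈ M) : t * x * t ∈ M2 M t := S.mem_M2.mpr (by rw [S.tconj]; exact hx)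

theorem commM {x y : G} (hx : x ∈ M) (hy : y ∈ M2 M t) : x * y = y * x := by
  have h1 := S.comm x hx _ (S.mem_M2.mp hy)
  rwa [S.tconj] at h1

theorem mem_MM {x : G} : x ∈ M ⊔ M2 M t ↔ ∃ a ∈ M, ∃ b ∈ M2 M t, x = a * b := by
  constructor
  · intro hx
    rw [sup_eq_closure] at hx
    induction hx using closure_induction with
    | mem x hx =>
      rcases hx with hx | hx
      · exact ⟨x, hx, 1, one_mem _, (mul_one x).symm⟩
      · exact ⟨1, one_mem _, x, hx, (one_mul x).symm⟩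
    | one => exact ⟨1, one_mem _, 1, one_mem _, (mul_one 1).symm⟩
    | mul x y _ _ hx hy =>
      obtain ⟨a, ha, b, hb, rfl⟩ := hx
      obtain ⟨c, hc, d, hd, rfl⟩ := hy
      refine ⟨a * c, mul_mem ha hc, b * d, mul_mem hb hd, ?_⟩
      calc a * b * (c * d) = a * (b * c) * d := by group
        _ = a * c * (b * d) := by rw [← S.commM hc hb]; group
    | inv x _ hx =>
      obtain ⟨a, ha, b, hb, rfl⟩ := hx
      refine ⟨a⁻¹, inv_mem ha, b⁻¹, inv_mem hb, ?_⟩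
      rw [mul_inv_rev, S.commM (inv_mem ha) (inv_mem hb)]
  · rintro ⟨a, ha, b, hb, rfl⟩
    exact mul_mem (mem_sup_left ha) (mem_sup_right hb)

theorem t_MM {x : G} (hx : x ∈ M ⊔ M2 M t) : t * x * t ∈ M ⊔ M2 M t := by
  obtain ⟨a, ha, b, hb, rfl⟩ := S.mem_MM.mp hx
  have e : t * (a * b) * t = (t * a * t) * (t * b * t) := by
    calc t * (a * b) * t = t * a * 1 * b * t := by group
      _ = t * a * (t * t) * b * t := by rw [S.tt]
      _ = _ := by group
  rw [e]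
  exact mul_mem (mem_sup_right (S.conj_mem_M2 ha)) (mem_sup_left (S.mem_M2.mp hb))

/-- elements of `M M^t` normalize `M` -/
theorem MM_conj {x m : G} (hx : x ∈ M ⊔ M2 M t) (hm : m ∈ M) : x * m * x⁻¹ ∈ M := by
  obtain ⟨a, ha, b, hb, rfl⟩ := S.mem_MM.mp hx
  have h1 : b * m * b⁻¹ = m := by rw [← S.commM hm hb, mul_inv_cancel_right]
  have e : a * b * m * (a * b)⁻¹ = a * (b * m * b⁻¹) * a⁻¹ := by group
  rw [e, h1]
  exact mul_mem (mul_mem ha hm) (inv_mem ha)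

/-- the homomorphism `x ↦ x * (u x u⁻¹)` for `u` with `u M u⁻¹ ≤ M^t` -/
def dg (u : G) (hu : ∀ x ∈ M, u * x * u⁻¹ ∈ M2 M t) : M →* G where
  toFun x := x * (u * x * u⁻¹)
  map_one' := by simp
  map_mul' x y := by
    show (x : G) * y * (u * (x * y) * u⁻¹) = x * (u * x * u⁻¹) * (y * (u * y * u⁻¹))
    have h1 : (y : G) * (u * x * u⁻¹) = u * x * u⁻¹ * y := S.commM y.2 (hu x x.2)
    calc (x : G) * y * (u * (x * y) * u⁻¹) = x * (y * (u * x * u⁻¹)) * (u * y * u⁻¹) := by group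
      _ = _ := by rw [h1]; group

theorem dg_apply (u : G) (hu : ∀ x ∈ M, u * x * u⁻¹ ∈ M2 M t) (x : M) : S.dg u hu x = x * (u * x * u⁻¹) := rfl

theorem t_swap : ∀ x ∈ M, t * x * t⁻¹ ∈ M2 M t := fun x hx => by
  rw [S.ti]
  exact S.conj_mem_M2 hx

theorem dg_t (x : M) : S.dg t S.t_swap x = x * (t * x * t) := by
  rw [S.dg_apply, S.ti]

/-- the hypotheses on the diagonal subgroup `A` -/
structure Dia (S : Swap M t) (A : Subgroup G) : Prop where
  eq : A = (S.dg t S.t_swap).range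
  inA : ∀ K : Subgroup G, ⁅K, K⁆ = K → K ≤ closure {x | x ∈ K ∧ ∃ k : ℕ, x ^ 2 ^ k = 1} →
    (∀ k ∈ K, k * t = t * k) → K ≤ A

variable {A : Subgroup G}

theorem range_perf (f : M →* G) : ⁅f.range, f.range⁆ = f.range := by
  have h2 : ⁅(⊤ : Subgroup M), (⊤ : Subgroup M)⁆ = ⊤ := by
    apply Subgroup.map_injective M.subtype_injective
    rw [Subgroup.map_commutator, ← MonoidHom.range_eq_map, Subgroup.range_subtype, S.perf]
  rw [MonoidHom.range_eq_map, ← Subgroup.map_commutator, h2]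

theorem range_two (f : M →* G) : f.range ≤ closure {x | x ∈ f.range ∧ ∃ k : ℕ, x ^ 2 ^ k = 1} := by
  rintro _ ⟨m, rfl⟩
  have key : ∀ m : G, m ∈ closure {x | x ∈ M ∧ ∃ k : ℕ, x ^ 2 ^ k = 1} → ∃ h : m ∈ M,
      f ⟨m, h⟩ ∈ closure {x | x ∈ f.range ∧ ∃ k : ℕ, x ^ 2 ^ k = 1} := by
    intro m hm
    induction hm using closure_induction with
    | mem x hx =>
      obtain ⟨h1, k, h2⟩ := hx
      refine ⟨h1, subset_closure ⟨⟨_, rfl⟩, k, ?_⟩⟩
      rw [← map_pow]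
      have : (⟨x, h1⟩ : M) ^ 2 ^ k = 1 := Subtype.ext h2
      rw [this, map_one]
    | one =>
      refine ⟨one_mem _, ?_⟩
      have : (⟨1, one_mem M⟩ : M) = 1 := rfl
      rw [this, map_one]
      exact one_mem _
    | mul x y _ _ hx hy =>
      obtain ⟨h1, h2⟩ := hx
      obtain ⟨h3, h4⟩ := hy
      refine ⟨mul_mem h1 h3, ?_⟩
      have : (⟨x * y, mul_mem h1 h3⟩ : M) = ⟨x, h1⟩ * ⟨y, h3⟩ := rfl
      rw [this, map_mul]
      exact mul_mem h2 h4
    | inv x _ hx =>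
      obtain ⟨h1, h2⟩ := hx
      refine ⟨inv_mem h1, ?_⟩
      have : (⟨x⁻¹, inv_mem h1⟩ : M) = ⟨x, h1⟩⁻¹ := rfl
      rw [this, map_inv]
      exact inv_mem h2
  obtain ⟨h1, h2⟩ := key m (S.two m.2)
  exact h2

theorem mem_A (D : Dia S A) {a : G} : a ∈ A ↔ ∃ x ∈ M, a = x * (t * x * t) := by
  rw [D.eq]
  constructor
  · rintro ⟨x, rfl⟩
    exact ⟨x, x.2, S.dg_t x⟩
  · rintro ⟨x, hx, rfl⟩
    exact ⟨⟨x, hx⟩, S.dg_t _⟩

theorem A_le (D : Dia S A) : A ≤ M ⊔ M2 M t := by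
  intro a ha
  obtain ⟨x, hx, rfl⟩ := (S.mem_A D).mp ha
  exact mul_mem (mem_sup_left hx) (mem_sup_right (S.conj_mem_M2 hx))

theorem A_comm_t (D : Dia S A) {a : G} (ha : a ∈ A) : a * t = t * a := by
  obtain ⟨x, hx, rfl⟩ := (S.mem_A D).mp ha
  calc x * (t * x * t) * t = x * t * x * (t * t) := by group
    _ = x * t * x := by rw [S.tt, mul_one]
    _ = t * (t * x * t * x) := by
      calc x * t * x = (t * t) * x * t * x := by rw [S.tt, one_mul]
        _ = _ := by group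
    _ = t * (x * (t * x * t)) := by rw [S.comm x hx x hx]

variable [Finite G]

/-- **(M1)** -/
theorem conj_A_le (D : Dia S A) {g : G} (hu : ∀ x ∈ M, g⁻¹ * t * g * x * (g⁻¹ * t * g)⁻¹ ∈ M2 M t) {a : G}
    (ha : a ∈ A) : g⁻¹ * a * g ∈ M ⊔ M2 M t := by
  set u := g⁻¹ * t * g with hudef
  have huu : u * u = 1 := by
    calc u * u = g⁻¹ * (t * t) * g := by rw [hudef]; group
      _ = 1 := by rw [S.tt]; group
  set δ := S.dg u hu with hδ
  set f : M →* G := (MulAut.conj g).toMonoidHom.comp δ with hf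
  have hfx : ∀ x : M, f x = g * (x * (u * x * u⁻¹)) * g⁻¹ := fun x => rfl
  have hcomm : ∀ k ∈ f.range, k * t = t * k := by
    rintro _ ⟨x, rfl⟩
    rw [hfx]
    have hui : u⁻¹ = u := inv_eq_of_mul_eq_one_left huu
    have h1 : (x : G) * (u * x * u⁻¹) * u = u * (x * (u * x * u⁻¹)) := by
      have h2 : (x : G) * (u * x * u⁻¹) = u * x * u⁻¹ * x := S.commM x.2 (hu x x.2)
      calc (x : G) * (u * x * u⁻¹) * u = x * (u * x) := by group
        _ = (u * u) * x * u * x := by rw [huu]; group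
        _ = u * (u * x * u * x) := by group
        _ = u * (u * x * u⁻¹ * x) := by rw [hui]
        _ = u * (x * (u * x * u⁻¹)) := by rw [h2]
    have ht : t = g * u * g⁻¹ := by rw [hudef]; group
    rw [ht]
    calc g * (x * (u * x * u⁻¹)) * g⁻¹ * (g * u * g⁻¹) = g * (x * (u * x * u⁻¹) * u) * g⁻¹ := by group
      _ = _ := by rw [h1]; group
  have hle : f.range ≤ A := D.inA _ (S.range_perf f) (S.range_two f) hcomm
  -- homomorphisms to `A / Z(A)`
  let α : M →* A := (S.dg t S.t_swap).codRestrict A (fun x => by rw [D.eq]; exact ⟨x, rfl⟩)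
  let β : M →* A := f.codRestrict A (fun x => hle ⟨x, rfl⟩)
  have hα : Function.Surjective α := by
    intro a
    have h1 : (a : G) ∈ (S.dg t S.t_swap).range := by rw [← D.eq]; exact a.2
    obtain ⟨x, hx⟩ := h1
    exact ⟨x, Subtype.ext hx⟩
  let α' : M →* A ⧸ center A := (QuotientGroup.mk' (center A)).comp α
  let β' : M →* A ⧸ center A := (QuotientGroup.mk' (center A)).comp β
  have hα' : Function.Surjective α' := (QuotientGroup.mk'_surjective _).comp hα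
  have hkα : ∀ x : M, (∀ m ∈ M, (x : G) * m = m * x) → x ∈ α'.ker := by
    intro x hx
    rw [MonoidHom.mem_ker]
    show ((α x : A) : A ⧸ center A) = 1
    rw [QuotientGroup.eq_one_iff, mem_center_iff]
    intro a
    obtain ⟨y, rfl⟩ := hα a
    rw [← map_mul, ← map_mul]
    congr 1
    exact Subtype.ext (hx y y.2).symm
  have hMne : ¬ ∀ x ∈ M, ∀ m ∈ M, x * m = m * x := by
    intro h
    apply S.ne
    rw [eq_bot_iff, ← S.perf, Subgroup.commutator_le]
    intro x hx y hy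
    rw [mem_bot, commutatorElement_def, h x hx y hy]
    group
  -- kernel of `β'`
  let N : Subgroup G := β'.ker.map M.subtype
  have hNM : N ≤ M := by
    rintro _ ⟨x, -, rfl⟩
    exact x.2
  have hN : ∀ m ∈ M, ∀ x ∈ N, m * x * m⁻¹ ∈ N := by
    rintro m hm y hy
    obtain ⟨x, hx, hxy⟩ := Subgroup.mem_map.mp hy
    have h1 : (⟨m, hm⟩ * x * ⟨m, hm⟩⁻¹ : M) ∈ β'.ker := (MonoidHom.normal_ker β').conj_mem x hx _
    have h2 : ((⟨m, hm⟩ * x * ⟨m, hm⟩⁻¹ : M) : G) = m * y * m⁻¹ := by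
      rw [← hxy]
      rfl
    rw [← h2]
    exact Subgroup.mem_map_of_mem M.subtype h1
  have hker : β'.ker ≤ α'.ker := by
    rcases S.qs N hNM hN with h | h
    · exfalso
      -- `β' = 1`
      have h1 : ∀ x : M, β x ∈ center A := by
        intro x
        have h2 : (x : G) ∈ N := by rw [h]; exact x.2
        obtain ⟨y, hy, hyx⟩ := h2
        have : y = x := Subtype.ext hyx
        rw [← this]
        have h3 : ((β y : A) : A ⧸ center A) = 1 := hy
        rwa [QuotientGroup.eq_one_iff] at h3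
      have h2 : ∀ x y : M, f x * f y = f y * f x := by
        intro x y
        have := mem_center_iff.mp (h1 x) (β y)
        exact congrArg Subtype.val this.symm
      have h3 : f.range = ⊥ := by
        rw [eq_bot_iff, ← S.range_perf f, Subgroup.commutator_le]
        rintro _ ⟨x, rfl⟩ _ ⟨y, rfl⟩
        rw [mem_bot, commutatorElement_def, h2]
        group
      apply hMne
      intro x hx m hm
      have h4 : f ⟨x, hx⟩ = 1 := by
        have : f ⟨x, hx⟩ ∈ f.range := ⟨_, rfl⟩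
        rw [h3] at this
        exact mem_bot.mp this
      rw [hfx] at h4
      have h5 : x * (u * x * u⁻¹) = 1 := by
        have : x * (u * x * u⁻¹) = g⁻¹ * (g * (x * (u * x * u⁻¹)) * g⁻¹) * g := by group
        rw [this]
        rw [h4]
        group
      have h6 : x = (u * x * u⁻¹)⁻¹ := eq_inv_of_mul_eq_one_left h5
      have h7 : m * (u * x * u⁻¹)⁻¹ = (u * x * u⁻¹)⁻¹ * m := S.commM hm (inv_mem (hu x hx))
      rw [← h6] at h7
      exact h7.symm
    · intro x hx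
      exact hkα x (h x ⟨x, hx, rfl⟩)
  have hcard : Nat.card (A ⧸ center A) ≤ Nat.card β'.range := by
    have h1 : Nat.card α'.range = Nat.card (A ⧸ center A) := by
      rw [MonoidHom.range_eq_top.mpr hα']
      exact Subgroup.card_top
    rw [← h1, ← Subgroup.index_ker, ← Subgroup.index_ker]
    exact Nat.le_of_dvd (Nat.pos_of_ne_zero Subgroup.index_ne_zero_of_finite) (Subgroup.index_dvd_of_le hker)
  have hβ' : β'.range = ⊤ := Subgroup.eq_top_of_le_card _ hcard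
  -- `A ≤ f.range`
  have hAperf : ⁅A, A⁆ = A := by
    have := S.range_perf (S.dg t S.t_swap)
    rwa [← D.eq] at this
  have hAle : A ≤ f.range := by
    rw [← hAperf, Subgroup.commutator_le]
    intro a ha b hb
    have key : ∀ a : A, ∃ x : M, ∃ z ∈ center A, a = β x * z := by
      intro a
      have h1 : ((a : A) : A ⧸ center A) ∈ β'.range := by rw [hβ']; exact mem_top _
      obtain ⟨x, hx⟩ := h1
      refine ⟨x, (β x)⁻¹ * a, ?_, by group⟩
      exact QuotientGroup.eq.mp hx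
    obtain ⟨x, z, hz, h1⟩ := key ⟨a, ha⟩
    obtain ⟨y, z', hz', h2⟩ := key ⟨b, hb⟩
    have h1' : a = f x * z := congrArg Subtype.val h1
    have h2' : b = f y * z' := congrArg Subtype.val h2
    have cz : ∀ c ∈ A, c * (z : G) = z * c := fun c hc => congrArg Subtype.val (mem_center_iff.mp hz ⟨c, hc⟩)
    have cz' : ∀ c ∈ A, c * (z' : G) = z' * c := fun c hc => congrArg Subtype.val (mem_center_iff.mp hz' ⟨c, hc⟩)
    have e : ⁅a, b⁆ = ⁅f x, f y⁆ := by
      rw [commutatorElement_def, commutatorElement_def, h1', h2']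
      have c1 : (z : G) * (f y * z') = f y * z' * z := (cz _ (mul_mem (hle ⟨y, rfl⟩) z'.2)).symm
      have c2 : (z' : G) * (f x)⁻¹ = (f x)⁻¹ * z' := (cz' _ (inv_mem (hle ⟨x, rfl⟩))).symm
      calc f x * z * (f y * z') * (f x * z)⁻¹ * (f y * z')⁻¹
          = f x * (z * (f y * z')) * (z : G)⁻¹ * (f x)⁻¹ * (z' : G)⁻¹ * (f y)⁻¹ := by group
        _ = f x * f y * (z' * (f x)⁻¹) * (z' : G)⁻¹ * (f y)⁻¹ := by rw [c1]; group
        _ = _ := by rw [c2]; group
    rw [e]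
    exact mul_mem (mul_mem (mul_mem ⟨x, rfl⟩ ⟨y, rfl⟩) (inv_mem ⟨x, rfl⟩)) (inv_mem ⟨y, rfl⟩)
  obtain ⟨x, hx⟩ := hAle ha
  rw [hfx] at hx
  have e : g⁻¹ * a * g = x * (u * x * u⁻¹) := by
    rw [← hx]
    group
  rw [e]
  exact mul_mem (mem_sup_left x.2) (mem_sup_right (hu x x.2))

/-- **(H)** -/
theorem mem_normalizer_MM (D : Dia S A) {v : G} (hv : v ∈ M) (hvv : v * v = 1) (hvc : ∃ m ∈ M, v * m ≠ m * v) {g : G}
    (hu : ∀ x ∈ M, g⁻¹ * t * g * x * (g⁻¹ * t * g)⁻¹ ∈ M2 M t) {m : G} (hm : m ∈ M ⊔ M2 M t) :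
    g⁻¹ * m * g ∈ M ⊔ M2 M t := by
  have hvi : v⁻¹ = v := inv_eq_of_mul_eq_one_left hvv
  have h1 : ∀ a ∈ A, g⁻¹ * a * g ∈ M ⊔ M2 M t := fun a ha => S.conj_A_le D hu ha
  set a := v * (t * v * t) with ha
  have haA : a ∈ A := (S.mem_A D).mpr ⟨v, hv, rfl⟩
  -- `(v g)⁻¹ t (v g) = (g⁻¹ t g) (g⁻¹ a g)`
  have h2 : (v * g)⁻¹ * t * (v * g) = g⁻¹ * t * g * (g⁻¹ * a * g) := by
    have e1 : v⁻¹ * t * v = t * a := by
      rw [hvi, ha, S.comm v hv v hv]
      calc v * t * v = (t * t) * v * t * v := by rw [S.tt, one_mul]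
        _ = _ := by group
    calc (v * g)⁻¹ * t * (v * g) = g⁻¹ * (v⁻¹ * t * v) * g := by group
      _ = _ := by rw [e1]; group
  have h3 : ∀ a' ∈ A, (v * g)⁻¹ * a' * (v * g) ∈ M ⊔ M2 M t := by
    intro a' ha'
    refine S.conj_A_le D ?_ ha'
    intro x hx
    rw [h2]
    have h4 : g⁻¹ * a * g * x * (g⁻¹ * a * g)⁻¹ ∈ M := S.MM_conj (h1 a haA) hx
    have h5 := hu _ h4
    have e : g⁻¹ * t * g * (g⁻¹ * a * g) * x * (g⁻¹ * t * g * (g⁻¹ * a * g))⁻¹ =
        g⁻¹ * t * g * (g⁻¹ * a * g * x * (g⁻¹ * a * g)⁻¹) * (g⁻¹ * t * g)⁻¹ := by group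
    rw [e]
    exact h5
  -- `W`
  let W : Subgroup G :=
    { carrier := {m | m ∈ M ∧ g⁻¹ * m * g ∈ M ⊔ M2 M t}
      one_mem' := ⟨one_mem _, by
        have : g⁻¹ * 1 * g = 1 := by group
        rw [this]; exact one_mem _⟩
      mul_mem' := by
        rintro x y ⟨hx, hx'⟩ ⟨hy, hy'⟩
        refine ⟨mul_mem hx hy, ?_⟩
        have : g⁻¹ * (x * y) * g = g⁻¹ * x * g * (g⁻¹ * y * g) := by group
        rw [this]; exact mul_mem hx' hy'
      inv_mem' := by
        rintro x ⟨hx, hx'⟩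
        refine ⟨inv_mem hx, ?_⟩
        have : g⁻¹ * x⁻¹ * g = (g⁻¹ * x * g)⁻¹ := by group
        rw [this]; exact inv_mem hx' }
  have hWM : W ≤ M := fun x hx => hx.1
  have hWn : ∀ y ∈ M, ∀ x ∈ W, y * x * y⁻¹ ∈ W := by
    rintro y hy x ⟨hx, hx'⟩
    refine ⟨mul_mem (mul_mem hy hx) (inv_mem hy), ?_⟩
    have hyA : y * (t * y * t) ∈ A := (S.mem_A D).mpr ⟨y, hy, rfl⟩
    have e : y * x * y⁻¹ = y * (t * y * t) * x * (y * (t * y * t))⁻¹ := by
      have c1 : t * y * t * x * (t * y * t)⁻¹ = x := by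
        rw [← S.comm x hx y hy, mul_inv_cancel_right]
      calc y * x * y⁻¹ = y * (t * y * t * x * (t * y * t)⁻¹) * y⁻¹ := by rw [c1]
        _ = _ := by group
    rw [e]
    have e2 : g⁻¹ * (y * (t * y * t) * x * (y * (t * y * t))⁻¹) * g =
        g⁻¹ * (y * (t * y * t)) * g * (g⁻¹ * x * g) * (g⁻¹ * (y * (t * y * t)) * g)⁻¹ := by group
    rw [e2]
    exact mul_mem (mul_mem (h1 _ hyA) hx') (inv_mem (h1 _ hyA))
  have hWc : ∀ x ∈ M, x⁻¹ * v⁻¹ * x * v ∈ W := by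
    intro x hx
    refine ⟨mul_mem (mul_mem (mul_mem (inv_mem hx) (inv_mem hv)) hx) hv, ?_⟩
    have hxA : x * (t * x * t) ∈ A := (S.mem_A D).mpr ⟨x, hx, rfl⟩
    have h4 := h3 _ hxA
    have h5 := inv_mem (h1 _ hxA)
    have e : g⁻¹ * (x⁻¹ * v⁻¹ * x * v) * g = (g⁻¹ * (x * (t * x * t)) * g)⁻¹ * ((v * g)⁻¹ * (x * (t * x * t)) * (v * g)) := by
      have c1 : t * x * t * v = v * (t * x * t) := (S.comm v hv x hx).symm
      have c2 : (t * x * t)⁻¹ * (x⁻¹ * v⁻¹ * x * v) = x⁻¹ * v⁻¹ * x * v * (t * x * t)⁻¹ := by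
        have hq : x⁻¹ * v⁻¹ * x * v ∈ M := mul_mem (mul_mem (mul_mem (inv_mem hx) (inv_mem hv)) hx) hv
        rw [inv_mul_eq_iff_eq_mul, ← mul_assoc, ← S.comm _ hq x hx, mul_inv_cancel_right]
      calc g⁻¹ * (x⁻¹ * v⁻¹ * x * v) * g
          = g⁻¹ * (x⁻¹ * v⁻¹ * x * v * (t * x * t)⁻¹) * (t * x * t) * g := by group
        _ = g⁻¹ * (t * x * t)⁻¹ * x⁻¹ * v⁻¹ * x * (v * (t * x * t)) * g := by rw [← c2]; group
        _ = g⁻¹ * (t * x * t)⁻¹ * x⁻¹ * v⁻¹ * x * (t * x * t * v) * g := by rw [c1]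
        _ = _ := by group
    rw [e]
    exact mul_mem h5 h4
  have hW : W = M := by
    rcases S.qs W hWM hWn with h | h
    · exact h
    · exfalso
      obtain ⟨m0, hm0, hne⟩ := hvc
      -- `x ↦ [x, v]` is a homomorphism to a commutative group
      have hz : ∀ x ∈ M, ∀ y ∈ M, x⁻¹ * v⁻¹ * x * v * y = y * (x⁻¹ * v⁻¹ * x * v) := fun x hx y hy => h _ (hWc x hx) y hy
      let φ : M →* G :=
        { toFun := fun x => (x : G)⁻¹ * v⁻¹ * x * v
          map_one' := by simp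
          map_mul' := fun x y => by
            show ((x : G) * y)⁻¹ * v⁻¹ * (x * y) * v = (x : G)⁻¹ * v⁻¹ * x * v * ((y : G)⁻¹ * v⁻¹ * y * v)
            calc ((x : G) * y)⁻¹ * v⁻¹ * (x * y) * v
                = (y : G)⁻¹ * ((x : G)⁻¹ * v⁻¹ * x * v) * v⁻¹ * y * v := by group
              _ = ((x : G)⁻¹ * v⁻¹ * x * v) * (y : G)⁻¹ * v⁻¹ * y * v := by rw [← hz x x.2 _ (inv_mem y.2)]
              _ = _ := by group }
      have h6 : φ.range = ⊥ := by
        rw [eq_bot_iff, ← S.range_perf φ, Subgroup.commutator_le]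
        rintro _ ⟨x, rfl⟩ _ ⟨y, rfl⟩
        have hc : φ x * φ y = φ y * φ x :=
          hz x x.2 _ (mul_mem (mul_mem (mul_mem (inv_mem y.2) (inv_mem hv)) y.2) hv)
        rw [mem_bot, commutatorElement_def, hc]
        group
      have h7 : φ ⟨m0, hm0⟩ = 1 := by
        have : φ ⟨m0, hm0⟩ ∈ φ.range := ⟨_, rfl⟩
        rw [h6] at this
        exact mem_bot.mp this
      have h8 : m0⁻¹ * v⁻¹ * m0 * v = 1 := h7
      apply hne
      calc v * m0 = v * m0 * 1 := (mul_one _).symm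
        _ = v * m0 * (m0⁻¹ * v⁻¹ * m0 * v) := by rw [h8]
        _ = m0 * v := by group
  have hM : ∀ x ∈ M, g⁻¹ * x * g ∈ M ⊔ M2 M t := by
    intro x hx
    rw [← hW] at hx
    exact hx.2
  obtain ⟨x, hx, y, hy, rfl⟩ := S.mem_MM.mp hm
  have hy' := S.mem_M2.mp hy
  have h9 : g⁻¹ * y * g ∈ M ⊔ M2 M t := by
    have hA' : t * y * t * (t * (t * y * t) * t) ∈ A := (S.mem_A D).mpr ⟨_, hy', rfl⟩
    have e : y = (t * y * t)⁻¹ * (t * y * t * (t * (t * y * t) * t)) := by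
      rw [S.tconj]; group
    have e2 : g⁻¹ * y * g = (g⁻¹ * (t * y * t) * g)⁻¹ * (g⁻¹ * (t * y * t * (t * (t * y * t) * t)) * g) := by
      calc g⁻¹ * y * g = g⁻¹ * ((t * y * t)⁻¹ * (t * y * t * (t * (t * y * t) * t))) * g := by rw [← e]
        _ = _ := by group
    rw [e2]
    exact mul_mem (inv_mem (hM _ hy')) (h1 _ hA')
  have e : g⁻¹ * (x * y) * g = g⁻¹ * x * g * (g⁻¹ * y * g) := by group
  rw [e]
  exact mul_mem (hM x hx) h9

end Swap

end Cfsg.Agent.SwapEnd
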