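import Cfsg.Agent.SwapEnd.Swap
import Cfsg.Agent.WreathFusion.Final
import Cfsg.Agent.WreathFusion.Pair
import Cfsg.Agent.WreathFusion.Kill

/-!
# The end of the split case: the Sylow 2-subgroup of `L` is `T × T^t`, contradiction by Theorem W
-/

set_option autoImplicit false

namespace Cfsg.Agent.SwapEnd

open Subgroup Cfsg.Agent.StdEven.Syl Cfsg.Agent.StdEven.OuterKill Cfsg.Agent.StdRank2.OutSplit
open Cfsg.Agent.WreathFusion
open scoped commutatorElement

variable {G : Type*} [Group G]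

theorem isSyl_of_odd [Finite G] {P N L : Subgroup G} (h : IsSyl P N) (hNL : N ≤ L) (ho : Odd (N.relIndex L)) :
    IsSyl P L := by
  have : Fact (Nat.Prime 2) := ⟨Nat.prime_two⟩
  refine ⟨h.le.trans hNL, h.two, fun X hX hXL hPX => ?_⟩
  have h1 : Odd (P.relIndex L) := by
    rw [← relIndex_mul_relIndex P N L h.le hNL]
    exact h.odd_relIndex.mul ho
  rw [← relIndex_mul_relIndex P X L hPX hXL] at h1
  have h2 : Odd (P.relIndex X) := (Nat.odd_mul.mp h1).1
  obtain ⟨k, hk⟩ := IsPGroup.iff_card.1 hX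
  have h3 : P.relIndex X ∣ 2 ^ k := by
    rw [← hk]
    exact Subgroup.relIndex_dvd_card P X
  have h4 : P.relIndex X = 1 :=
    Nat.eq_one_of_dvd_coprimes (Nat.Coprime.pow_left k (Nat.coprime_two_left.mpr h2)) h3 dvd_rfl
  exact le_antisymm (relIndex_eq_one.mp h4) hPX

/-- a 2-element normalizing the Sylow subgroup lies in it -/
theorem mem_of_normalizer [Finite G] {T M : Subgroup G} (hT : IsSyl T M) {a : G} (ha : a ∈ M) {k : ℕ}
    (hk : a ^ 2 ^ k = 1) (hn : ∀ y ∈ T, a * y * a⁻¹ ∈ T) : a ∈ T := by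
  have h1 : a ∈ normalizer (T : Set G) := mem_normalizer_of_conj_le hn
  have h2 : IsPGroup 2 (zpowers a) := by
    rintro ⟨x, n, rfl⟩
    refine ⟨k, Subtype.ext ?_⟩
    show (a ^ n) ^ 2 ^ k = 1
    rw [← zpow_natCast, ← zpow_mul, mul_comm, zpow_mul, zpow_natCast, hk, one_zpow]
  have h3 : IsPGroup 2 (T ⊔ zpowers a : Subgroup G) :=
    hT.two.to_sup_of_normal_left' h2 (by rw [zpowers_le]; exact h1)
  have h4 := hT.max _ h3 (sup_le hT.le (by rw [zpowers_le]; exact ha)) le_sup_left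
  rw [← h4]
  exact mem_sup_right (mem_zpowers a)

namespace Swap

variable {M : Subgroup G} {t : G} (S : Swap M t)

include S

theorem map_t {x : G} : (MulAut.conj t).toMonoidHom x = t * x * t := by
  show t * x * t⁻¹ = _
  rw [S.ti]

theorem mem_map {T : Subgroup G} {x : G} : x ∈ T.map (MulAut.conj t).toMonoidHom ↔ t * x * t ∈ T := by
  constructor
  · rintro ⟨y, hy, rfl⟩
    rw [S.map_t, S.tconj]
    exact hy
  · intro h
    exact ⟨_, h, by rw [S.map_t, S.tconj]⟩

theorem isSyl_map [Finite G] {T : Subgroup G} (hT : IsSyl T M) :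
    IsSyl (T.map (MulAut.conj t).toMonoidHom) (M2 M t) := by
  refine ⟨Subgroup.map_mono hT.le, hT.two.map _, fun X hX hXM hTX => ?_⟩
  have h1 := hT.max (X.map (MulAut.conj t).toMonoidHom) (hX.map _) ?_ ?_
  · ext x
    rw [S.mem_map, ← h1, S.mem_map, S.tconj]
  · intro x hx
    rw [S.mem_map] at hx
    have := S.mem_M2.mp (hXM hx)
    rwa [S.tconj] at this
  · intro x hx
    rw [S.mem_map]
    apply hTX
    rw [S.mem_map, S.tconj]
    exact hx

end Swap

namespace Hyp

variable {L A M : Subgroup G} {t : G} {c e u : ℕ} (H : Hyp L A M t c e u) (S : Swap M t)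

include H S

theorem two_decomp [Finite G] {x : G} (hx : x ∈ I1 M t ⊓ I2 M t) {k : ℕ} (hk : x ^ 2 ^ k = 1) :
    ∃ a ∈ M, ∃ b ∈ M2 M t, x = a * b ∧ a ^ 2 ^ k = 1 ∧ b ^ 2 ^ k = 1 := by
  obtain ⟨a, ha, b, hb, c, hc, rfl⟩ := S.exists_of_mem_I (mem_inf.mp hx).1 (mem_inf.mp hx).2
  set n := Nat.card (centralizer ((M ⊔ M2 M t : Subgroup G) : Set G)) with hn
  have hodd : Odd n := H.odd_C S
  have hcop : Nat.Coprime (2 ^ k) n := Nat.Coprime.pow_left k (Nat.coprime_two_left.mpr hodd)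
  obtain ⟨r, hr1, hr2⟩ : ∃ r : ℕ, r ≡ 1 [MOD 2 ^ k] ∧ r ≡ 0 [MOD n] :=
    ⟨_, (Nat.chineseRemainder hcop 1 0).2⟩
  -- `r ≡ 1 mod 2^k`, `n ∣ r`
  have hnr : n ∣ r := (Nat.modEq_zero_iff_dvd).mp hr2
  have hC : ∀ {y : G}, (∀ m ∈ M ⊔ M2 M t, y * m = m * y) → y ^ r = 1 := by
    intro y hy
    have h1 : y ∈ centralizer ((M ⊔ M2 M t : Subgroup G) : Set G) := by
      rw [mem_centralizer_iff]
      exact fun m hm => (hy m hm).symm
    have h2 : orderOf y ∣ n := Subgroup.orderOf_dvd_natCard _ h1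
    exact orderOf_dvd_iff_pow_eq_one.mp (h2.trans hnr)
  have cab : Commute a b := S.commM ha hb
  have cca : Commute c a := hc a (mem_sup_left ha)
  have ccb : Commute c b := hc b (mem_sup_right hb)
  have cabc : Commute (a * b) c := (cca.mul_right ccb).symm
  have hpow : ∀ m : ℕ, (a * b * c) ^ m = a ^ m * b ^ m * c ^ m := fun m => by
    rw [cabc.mul_pow, cab.mul_pow]
  have hxr : (a * b * c) ^ r = a * b * c := by
    have h1 : r % 2 ^ k = 1 % 2 ^ k := hr1
    rcases Nat.eq_zero_or_pos k with h0 | h0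
    · rw [h0, pow_zero, pow_one] at hk
      rw [hk, one_pow]
    · have h2 : 1 % 2 ^ k = 1 := Nat.mod_eq_of_lt (Nat.one_lt_two_pow (by omega))
      rw [← Nat.div_add_mod r (2 ^ k), h1, h2, pow_add, pow_mul, hk, one_pow, one_mul, pow_one]
  have hk' : a ^ 2 ^ k * b ^ 2 ^ k * c ^ 2 ^ k = 1 := by rw [← hpow]; exact hk
  have ha2 : ∀ m ∈ M ⊔ M2 M t, a ^ 2 ^ k * m = m * a ^ 2 ^ k := by
    rw [S.comm_MM_iff]
    constructor
    · intro m hm
      have h1 : a ^ 2 ^ k = (b ^ 2 ^ k * c ^ 2 ^ k)⁻¹ := by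
        rw [eq_inv_iff_mul_eq_one, ← mul_assoc]; exact hk'
      rw [h1]
      have h2 : Commute m (b ^ 2 ^ k) := Commute.pow_right (S.commM hm hb) _
      have h3 : Commute m (c ^ 2 ^ k) := Commute.pow_right (hc m (mem_sup_left hm)).symm _
      exact (h2.mul_right h3).inv_right.symm.eq
    · intro m hm
      exact (Commute.pow_left (S.commM ha hm) _).eq
  have hb2 : ∀ m ∈ M ⊔ M2 M t, b ^ 2 ^ k * m = m * b ^ 2 ^ k := by
    rw [S.comm_MM_iff]
    constructor
    · intro m hm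
      exact (Commute.pow_right (S.commM hm hb) _).symm.eq
    · intro m hm
      have h1 : b ^ 2 ^ k = (a ^ 2 ^ k * c ^ 2 ^ k)⁻¹ := by
        rw [eq_inv_iff_mul_eq_one]
        have h4 : Commute (a ^ 2 ^ k) (b ^ 2 ^ k) := (cab.pow_pow _ _)
        calc b ^ 2 ^ k * (a ^ 2 ^ k * c ^ 2 ^ k) = b ^ 2 ^ k * a ^ 2 ^ k * c ^ 2 ^ k := by rw [mul_assoc]
          _ = a ^ 2 ^ k * b ^ 2 ^ k * c ^ 2 ^ k := by rw [h4.eq]
          _ = 1 := hk'
      rw [h1]
      have h2 : Commute m (a ^ 2 ^ k) := Commute.pow_right (S.commM ha hm).symm _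
      have h3 : Commute m (c ^ 2 ^ k) := Commute.pow_right (hc m (mem_sup_right hm)).symm _
      exact (h2.mul_right h3).inv_right.symm.eq
  refine ⟨a ^ r, pow_mem ha _, b ^ r, pow_mem hb _, ?_, ?_, ?_⟩
  · rw [← hxr, hpow, hC hc, mul_one]
  · rw [← pow_mul, mul_comm, pow_mul]
    exact hC ha2
  · rw [← pow_mul, mul_comm, pow_mul]
    exact hC hb2

theorem eq_one_of_inf [Finite G] {x : G} (h1 : x ∈ M) (h2 : x ∈ M2 M t) {k : ℕ} (hk : x ^ 2 ^ k = 1) : x = 1 := by
  refine H.C_eq_one S (S.comm_MM_iff.mpr ⟨fun m hm => ?_, fun m hm => ?_⟩) hk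
  · exact (S.commM hm h2).symm
  · exact S.commM h1 hm

theorem two_sup [Finite G] {T : Subgroup G} (hT : IsSyl T M) :
    IsPGroup 2 (T ⊔ T.map (MulAut.conj t).toMonoidHom : Subgroup G) := by
  refine hT.two.to_sup_of_normal_left' (hT.two.map _) ?_
  intro w hw
  apply mem_normalizer_of_conj_le
  intro x hx
  have hwM := (S.isSyl_map hT).le hw
  rw [← S.commM (hT.le hx) hwM, mul_inv_cancel_right]
  exact hx

theorem isSyl_I [Finite G] {T : Subgroup G} (hT : IsSyl T M) :
    IsSyl (T ⊔ T.map (MulAut.conj t).toMonoidHom) (I1 M t ⊓ I2 M t) := by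
  have hT2 := S.isSyl_map hT
  have hle : T ⊔ T.map (MulAut.conj t).toMonoidHom ≤ M ⊔ M2 M t := sup_le_sup hT.le hT2.le
  refine ⟨fun x hx => S.MM_le_I (hle hx), H.two_sup S hT, fun X hX hXI hTX => ?_⟩
  apply le_antisymm _ hTX
  intro x hx
  obtain ⟨k, hk⟩ := hX ⟨x, hx⟩
  have hk' : x ^ 2 ^ k = 1 := congrArg Subtype.val hk
  obtain ⟨a, ha, b, hb, rfl, hak, hbk⟩ := H.two_decomp S (hXI hx) hk'
  have h1 : X ⊓ M = T := hT.max _ (hX.to_le inf_le_left) inf_le_right (le_inf (le_sup_left.trans hTX) hT.le)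
  have h2 : X ⊓ M2 M t = T.map (MulAut.conj t).toMonoidHom :=
    hT2.max _ (hX.to_le inf_le_left) inf_le_right (le_inf (le_sup_right.trans hTX) hT2.le)
  refine mul_mem (mem_sup_left ?_) (mem_sup_right ?_)
  · refine mem_of_normalizer hT ha hak fun y hy => ?_
    have hyM := hT.le hy
    have h3 : a * b * y * (a * b)⁻¹ = a * y * a⁻¹ := by
      have := S.commM hyM hb
      calc a * b * y * (a * b)⁻¹ = a * (b * y) * b⁻¹ * a⁻¹ := by group
        _ = a * (y * b) * b⁻¹ * a⁻¹ := by rw [this]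
        _ = _ := by group
    rw [← h1]
    refine mem_inf.mpr ⟨?_, mul_mem (mul_mem ha hyM) (inv_mem ha)⟩
    rw [← h3]
    exact mul_mem (mul_mem hx (hTX (mem_sup_left hy))) (inv_mem hx)
  · refine mem_of_normalizer hT2 hb hbk fun y hy => ?_
    have hyM := hT2.le hy
    have h3 : a * b * y * (a * b)⁻¹ = b * y * b⁻¹ := by
      have h4 := S.commM ha (mul_mem (mul_mem hb hyM) (inv_mem hb))
      calc a * b * y * (a * b)⁻¹ = a * (b * y * b⁻¹) * a⁻¹ := by group
        _ = (b * y * b⁻¹) * a * a⁻¹ := by rw [h4]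
        _ = _ := by group
    rw [← h2]
    refine mem_inf.mpr ⟨?_, mul_mem (mul_mem hb hyM) (inv_mem hb)⟩
    rw [← h3]
    exact mul_mem (mul_mem hx (hTX (mem_sup_right hy))) (inv_mem hx)

theorem isSyl_L [Finite G] (D : Swap.Dia S A) {T : Subgroup G} (hT : IsSyl T M) :
    IsSyl (T ⊔ T.map (MulAut.conj t).toMonoidHom) L := by
  have C := H.conf2 S D
  have h1 := C.inf_eq
  have h2 := H.isSyl_I S hT
  rw [← h1] at h2
  refine isSyl_of_odd h2 inf_le_right ?_
  have h3 := C.odd_index_L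
  have h4 : (YY M t ⊓ L).subgroupOf L = (YY M t).subgroupOf L := Subgroup.inf_subgroupOf_right _ _
  show Odd ((YY M t ⊓ L).subgroupOf L).index
  rw [h4]
  exact h3

theorem T_ne [Finite G] {T : Subgroup G} (hT : IsSyl T M) : T ≠ ⊥ := by
  intro h
  obtain ⟨v, hv, hvv, m, hm, hne⟩ := H.inv
  apply hne
  have hv1 : v ∈ T := by
    refine mem_of_normalizer hT hv (k := 1) (by rw [pow_one, pow_two]; exact hvv) fun y hy => ?_
    rw [h, mem_bot] at hy ⊢
    rw [hy]; group
  rw [h, mem_bot] at hv1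
  rw [hv1, one_mul, mul_one]

theorem pdata [Finite G] {T : Subgroup G} (hT : IsSyl T M) (hi : CentIndec T)
    (hc : centralizer ((⁅T, T⁆ : Subgroup G) : Set G) ⊓ T ≤ ⁅T, T⁆) :
    PData (T ⊔ T.map (MulAut.conj t).toMonoidHom) T (T.map (MulAut.conj t).toMonoidHom) M (M2 M t) := by
  have hT2 := S.isSyl_map hT
  exact
    { prod := by
        refine ⟨le_sup_left, le_sup_right, fun a ha b hb => S.commM (hT.le ha) (hT2.le hb), ?_, rfl⟩
        rw [eq_bot_iff]
        intro x hx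
        obtain ⟨h1, h2⟩ := mem_inf.mp hx
        obtain ⟨k, hk⟩ := hT.two ⟨x, h1⟩
        exact mem_bot.mpr (H.eq_one_of_inf S (hT.le h1) (hT2.le h2) (congrArg Subtype.val hk))
      card_eq := Nat.card_congr (T.equivMapOfInjective (MulAut.conj t).toMonoidHom (MulAut.conj t).injective).toEquiv
      ne₁ := H.T_ne S hT
      ne₂ := fun h => H.T_ne S hT
        ((map_eq_bot_iff_of_injective T (f := (MulAut.conj t).toMonoidHom) (MulAut.conj t).injective).mp h)
      ind₁ := hi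
      ind₂ := CentIndec.map (MulAut.conj t).toMonoidHom (MulAut.conj t).injective hi
      cen₁ := hc
      cen₂ := cen_map (MulAut.conj t).toMonoidHom (MulAut.conj t).injective hc
      perf₁ := S.perf.ge
      perf₂ := by
        rw [M2, ← map_commutator, S.perf]
      le₁ := hT.le
      le₂ := hT2.le
      com₁ := by
        intro x hx
        rw [mem_centralizer_iff]
        intro y hy
        exact (S.commM hx (hT2.le hy)).symm
      com₂ := by
        intro x hx
        rw [mem_centralizer_iff]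
        intro y hy
        exact S.commM (hT.le hy) hx }

/-- **the split case is impossible** -/
theorem false_of [Finite G] (D : Swap.Dia S A) (hs : IsSimpleGroup ↥L) {T : Subgroup G} (hT : IsSyl T M)
    (hi : CentIndec T) (hc : centralizer ((⁅T, T⁆ : Subgroup G) : Set G) ⊓ T ≤ ⁅T, T⁆) : False := by
  refine false_of_pdata hs ?_ (H.isSyl_L S D hT) (H.pdata S hT hi hc)
  intro D hD
  have hL := H.normal
  have hcyc : ∀ g h : G, ⁅g, h⁆ ∈ L := by
    have hab : ∀ a b : G, a ∉ L → b ∉ L → a * b ∈ L := by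
      intro a b ha hb
      have h1 := (H.gen a).resolve_left ha
      have h2 := (H.gen b).resolve_left hb
      have h3 := hL.conj_mem _ h1 t
      have h4 := mul_mem h3 h2
      have e : t * (t * a) * t⁻¹ * (t * b) = a * b := by
        calc t * (t * a) * t⁻¹ * (t * b) = (t * t) * a * b := by group
          _ = a * b := by rw [S.tt, one_mul]
      rwa [e] at h4
    have hinv : ∀ a : G, a ∉ L → a⁻¹ ∉ L := fun a ha h => ha (by
      have := inv_mem h
      rwa [inv_inv] at this)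
    intro a b
    rw [commutatorElement_def]
    by_cases ha : a ∈ L
    · have e : a * b * a⁻¹ * b⁻¹ = a * (b * a⁻¹ * b⁻¹) := by group
      rw [e]
      exact mul_mem ha (hL.conj_mem _ (inv_mem ha) b)
    · by_cases hb : b ∈ L
      · exact mul_mem (hL.conj_mem _ hb a) (inv_mem hb)
      · have e : a * b * a⁻¹ * b⁻¹ = (a * b) * (a⁻¹ * b⁻¹) := by group
        rw [e]
        exact mul_mem (hab _ _ ha hb) (hab _ _ (hinv _ ha) (hinv _ hb))
  exact hD.trans ((Subgroup.commutator_le).mpr fun g _ h _ => hcyc g h)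

end Hyp

end Cfsg.Agent.SwapEnd
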