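import Cfsg.Agent.SwapEnd.Rank
import Cfsg.Agent.StdEven.EndLift

/-!
# The hypotheses of `SwapEnd.Hyp` which come from the configuration `Conf L A t`
-/

set_option autoImplicit false

namespace Cfsg.Agent.SwapEnd.FromConf

open Cfsg Subgroup Cfsg.Agent.StdEven.Syl Cfsg.Agent.StdEven.CoreQuot Cfsg.Agent.StdL2.Setup Cfsg.Agent.SwapEnd
open Cfsg.Agent.StdEven Cfsg.Agent.StdEven.Loc

variable {G : Type*} [Group G] [Finite G] {L A M T : Subgroup G} {t : G}

theorem oddC (h : CoreQuot.Hyp A t T) (W : Swap M t) (D : Swap.Dia W A) : OddC M t := by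
  intro c hc hct hcc
  have hcA : c ∈ centralizer (A : Set G) := by
    rw [mem_centralizer_iff]
    intro a ha
    exact (hc a (W.A_le D ha)).symm
  rcases h.eq_of_two hcA hct (k := 1) (by rw [pow_one, pow_two]; exact hcc) with h1 | h1
  · exact h1
  · exfalso
    apply W.MM2_swap
    intro x hx
    have h2 := hc x (mem_sup_left hx)
    rw [h1] at h2
    rw [W.mem_M2]
    have h3 : t * x * t = x := by rw [h2, mul_assoc, W.tt, mul_one]
    rw [h3]
    exact hx

theorem gen (C : Conf L A t) (g : G) : g ∈ L ∨ t * g ∈ L := by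
  have := C.normal
  have htt : t * t = 1 := tt C.ht
  let K : Subgroup G :=
    { carrier := {g | g ∈ L ∨ t * g ∈ L}
      mul_mem' := by
        rintro a b (ha | ha) (hb | hb)
        · exact Or.inl (mul_mem ha hb)
        · right
          have h2 := this.conj_mem a ha t
          have h3 : t * (a * b) = (t * a * t⁻¹) * (t * b) := by group
          rw [h3]; exact mul_mem h2 hb
        · right
          have h3 : t * (a * b) = t * a * b := by group
          rw [h3]; exact mul_mem ha hb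
        · left
          have h2 := this.conj_mem _ ha t
          have h3 : a * b = (t * (t * a) * t⁻¹) * (t * b) := by
            calc a * b = (t * t) * a * b := by rw [htt, one_mul]
              _ = _ := by group
          rw [h3]; exact mul_mem h2 hb
      one_mem' := Or.inl (one_mem _)
      inv_mem' := by
        rintro a (ha | ha)
        · exact Or.inl (inv_mem ha)
        · right
          have h2 := this.conj_mem _ (inv_mem ha) t
          have h3 : t * a⁻¹ = t * (t * a)⁻¹ * t⁻¹ * (t * t) := by group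
          rw [h3, htt, mul_one]; exact h2 }
  have h2 : L ⊔ zpowers t ≤ K := sup_le (fun x hx => Or.inl hx) (by
    rw [zpowers_le]
    right
    rw [htt]; exact one_mem _)
  rw [C.gen] at h2
  exact h2 (mem_top g)

theorem sq_mem (C : Conf L A t) (g : G) : g * g ∈ L := by
  have := C.normal
  have htt : t * t = 1 := tt C.ht
  rcases gen C g with h | h
  · exact mul_mem h h
  · have h3 := this.conj_mem _ h t
    have h4 : g * g = (t * (t * g) * t⁻¹) * (t * g) := by
      calc g * g = (t * t) * g * g := by rw [htt, one_mul]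
        _ = _ := by group
    rw [h4]; exact mul_mem h3 h

/-- rank of `C_G(t)` from the rank of `C_X(t)` -/
theorem rank (h : CoreQuot.Hyp A t T) {r : ℕ}
    (hX : ∀ B : Subgroup (XQ A t), (∀ x ∈ B, x * x = 1) → (∀ x ∈ B, x * h.tX = h.tX * x) → Nat.card B ≤ r)
    (B : Subgroup G) (hB : ∀ x ∈ B, x * x = 1) (hBt : ∀ x ∈ B, x * t = t * x) : Nat.card B ≤ r := by
  have h2 : IsPGroup 2 B := isPGroup_of_sq hB
  have hN : B ≤ NO A t := fun x hx => h.mem_normalizer_core (hBt x hx)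
  rw [← h.card_im h2 hN]
  apply hX
  · intro y hy
    obtain ⟨n, hn, rfl⟩ := mem_im.mp hy
    have : n * n = 1 := Subtype.ext (hB n hn)
    rw [← map_mul, this, map_one]
  · intro y hy
    obtain ⟨n, hn, rfl⟩ := mem_im.mp hy
    exact h.pr_comm_iff.mpr (hBt n hn)

theorem inn_iff (h : CoreQuot.Hyp A t T) {g a o : G} (ha : a ∈ A) (ho : o ∈ core A t) :
    Inn A (o * (g * a)) ↔ Inn A g := by
  constructor
  · intro h1
    have h2 : g = o⁻¹ * (o * (g * a)) * a⁻¹ := by group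
    rw [h2]
    refine (Inn.mul (Inn.of_comm fun x hx => ?_) h1).mul (Inn.of_mem (inv_mem ha))
    exact comm_of_centralizer (inv_mem (h.core_le ho)) hx
  · intro h1
    refine Inn.mul (Inn.of_comm fun x hx => ?_) (h1.mul (Inn.of_mem ha))
    exact comm_of_centralizer (h.core_le ho) hx

/-- **(invf)** -/
theorem invf (C : Conf L A t) (h : CoreQuot.Hyp A t T)
    (split : ∀ g ∈ normalizer (im A t A : Set (XQ A t)),
      ¬ (∃ a ∈ im A t A, a⁻¹ * g ∈ centralizer (im A t A : Set (XQ A t))) →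
      ∃ a ∈ im A t A, (g * a) * (g * a) ∈ centralizer (im A t A : Set (XQ A t)))
    (htL : t ∉ L) (hc : ∃ c, c * t = t * c ∧ ¬ Inn A c) : ∃ f, f * t = t * f ∧ f * f = 1 ∧ ¬ Inn A f := by
  obtain ⟨c, hct, hcA⟩ := hc
  have hcN := h.mem_normalizer_core hct
  set x := pr A t ⟨c, hcN⟩ with hx
  have hxt : x * h.tX = h.tX * x := h.pr_comm_iff.mpr hct
  have hxN : x ∈ normalizer (im A t A : Set (XQ A t)) :=
    mem_normalizer_of_conj_le fun _ ha => h.conj_mem_im hxt ha
  have hxI : ¬ ∃ a ∈ im A t A, a⁻¹ * x ∈ centralizer (im A t A : Set (XQ A t)) := by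
    rintro ⟨a', ha', hax⟩
    apply hcA
    obtain ⟨a, ha, rfl⟩ := mem_im.mp ha'
    have hat : (a : G) * t = t * a := (comm_of_centralizer h.htA ha).symm
    have hait : (a : G)⁻¹ * c * t = t * ((a : G)⁻¹ * c) := by
      have h1 : (a : G)⁻¹ * t = t * (a : G)⁻¹ := (comm_of_centralizer h.htA (inv_mem ha)).symm
      rw [mul_assoc, hct, ← mul_assoc, h1, mul_assoc]
    have h2 := h.mem_core_or_of_mod hait (fun b hb => ?_)
    · refine ⟨a, ha, fun y hy => ?_⟩
      rcases h2 with h2 | h2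
      · exact comm_of_centralizer (h.core_le h2) hy
      · have h3 := comm_of_centralizer (h.core_le h2) hy
        have h4 : t * y = y * t := comm_of_centralizer h.htA hy
        have h5 : (a : G)⁻¹ * c = t * (t * ((a : G)⁻¹ * c)) := by rw [← mul_assoc t t, h.tt, one_mul]
        rw [h5, mul_assoc t, h3, ← mul_assoc, h4, mul_assoc]
    · have h3 := comm_of_centralizer hax (pr_mem_im (A := A) (t := t) (n := ⟨b, h.A_le hb⟩) hb)
      rw [← pr_eq_one (n := ⟨(a : G)⁻¹ * c * b * ((a : G)⁻¹ * c)⁻¹ * b⁻¹, mul_mem (mul_mem (mul_mem (mul_mem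
        (inv_mem a.2) hcN) (h.A_le hb)) (inv_mem (mul_mem (inv_mem a.2) hcN))) (inv_mem (h.A_le hb))⟩)]
      have e : (⟨(a : G)⁻¹ * c * b * ((a : G)⁻¹ * c)⁻¹ * b⁻¹, mul_mem (mul_mem (mul_mem (mul_mem
        (inv_mem a.2) hcN) (h.A_le hb)) (inv_mem (mul_mem (inv_mem a.2) hcN))) (inv_mem (h.A_le hb))⟩ : NO A t)
        = a⁻¹ * ⟨c, hcN⟩ * ⟨b, h.A_le hb⟩ * (a⁻¹ * ⟨c, hcN⟩)⁻¹ * ⟨b, h.A_le hb⟩⁻¹ := rfl
      rw [e]
      simp only [map_mul, map_inv]
      rw [← hx, h3]
      group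
  obtain ⟨a', ha', hsq⟩ := split x hxN hxI
  obtain ⟨a, ha, rfl⟩ := mem_im.mp ha'
  have hat : (a : G) * t = t * a := (comm_of_centralizer h.htA ha).symm
  set y : G := c * a with hy
  have hyt : y * t = t * y := by
    rw [hy, mul_assoc, hat, ← mul_assoc, hct, mul_assoc]
  have hyN : y ∈ NO A t := mul_mem hcN a.2
  have hpy : pr A t ⟨y, hyN⟩ = x * pr A t a := by
    rw [hx, ← map_mul]; rfl
  have hpyt : pr A t ⟨y, hyN⟩ * h.tX = h.tX * pr A t ⟨y, hyN⟩ := h.pr_comm_iff.mpr hyt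
  rw [← hpy] at hsq
  have h1 : pr A t ⟨y, hyN⟩ * pr A t ⟨y, hyN⟩ = 1 ∨ pr A t ⟨y, hyN⟩ * pr A t ⟨y, hyN⟩ = h.tX := by
    apply h.eq_of_cent
    · rw [mul_assoc, hpyt, ← mul_assoc, hpyt, mul_assoc]
    · intro b hb
      exact comm_of_centralizer hsq hb
  obtain ⟨i, j, hij, hi, k, hk⟩ := StdSz.Env.exists_decomp y
  have hyi : y ^ i ∈ NO A t := pow_mem hyN i
  have hyj : y ^ j ∈ NO A t := pow_mem hyN j
  have h4 : pr A t ⟨y, hyN⟩ ^ 4 = 1 := by
    have : pr A t ⟨y, hyN⟩ ^ 4 = (pr A t ⟨y, hyN⟩ * pr A t ⟨y, hyN⟩) * (pr A t ⟨y, hyN⟩ * pr A t ⟨y, hyN⟩) := by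
      simp only [pow_succ, pow_zero, one_mul, mul_assoc]
    rw [this]
    rcases h1 with h1 | h1
    · rw [h1, mul_one]
    · rw [h1, h.tX_sq]
  have hio : y ^ i ∈ core A t := by
    rw [← pr_eq_one (n := ⟨y ^ i, hyi⟩)]
    have e : pr A t ⟨y ^ i, hyi⟩ = pr A t ⟨y, hyN⟩ ^ i := by rw [← map_pow]; rfl
    have h5 : (pr A t ⟨y ^ i, hyi⟩) ^ 4 = 1 := by
      rw [e, ← pow_mul, mul_comm, pow_mul, h4, one_pow]
    have h6 : Odd (orderOf (pr A t ⟨y ^ i, hyi⟩)) := by
      refine Odd.of_dvd_nat hi ?_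
      have := orderOf_map_dvd (pr A t) ⟨y ^ i, hyi⟩
      rwa [← Subgroup.orderOf_coe] at this
    have h7 : orderOf (pr A t ⟨y ^ i, hyi⟩) ∣ 4 := orderOf_dvd_of_pow_eq_one h5
    have h8 : orderOf (pr A t ⟨y ^ i, hyi⟩) ∣ 1 := by
      have h9 : Nat.Coprime (orderOf (pr A t ⟨y ^ i, hyi⟩)) 4 := by
        have : Nat.Coprime (orderOf (pr A t ⟨y ^ i, hyi⟩)) (2 ^ 2) := Nat.Coprime.pow_right 2 h6.coprime_two_right
        simpa using this
      rw [← h9.gcd_eq_one]
      exact Nat.dvd_gcd dvd_rfl h7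
    exact orderOf_eq_one_iff.mp (Nat.dvd_one.mp h8)
  set f := y ^ j with hf
  have hfy : f = (y ^ i)⁻¹ * y := by
    rw [eq_inv_mul_iff_mul_eq]; exact hij.symm
  have hft : f * t = t * f := (Commute.pow_left (show Commute y t from hyt) j).eq
  have hfA : ¬ Inn A f := by
    rw [hfy, hy, inn_iff h ha (inv_mem hio)]
    exact hcA
  have hpf : pr A t ⟨f, hyj⟩ = pr A t ⟨y, hyN⟩ := by
    have e : (⟨y, hyN⟩ : NO A t) = ⟨y ^ i, hyi⟩ * ⟨f, hyj⟩ := Subtype.ext (by
      show y = y ^ i * y ^ j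
      exact hij)
    rw [e, map_mul, (pr_eq_one (n := ⟨y ^ i, hyi⟩)).mpr hio, one_mul]
  rcases h1 with h1 | h1
  · refine ⟨f, hft, ?_, hfA⟩
    rw [← hpf, ← map_mul, pr_eq_one] at h1
    have h2 : f * f ∈ core A t := h1
    have h3 : (f * f) ^ 2 ^ k = 1 := by
      have h5 : Commute f f := Commute.refl f
      rw [h5.mul_pow, hk, one_mul]
    exact eq_one_of_two_odd h.odd_core h2 h3
  · exfalso
    apply htL
    have h2 : f * f * t ∈ core A t := by
      have h3 : pr A t (⟨f, hyj⟩ * ⟨f, hyj⟩ * ⟨t, h.t_mem⟩) = 1 := by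
        rw [map_mul, map_mul, hpf, h1, ← h.tX_eq, h.tX_sq]
      exact pr_eq_one.mp h3
    have h3 : (f * f * t) ^ 2 ^ (k + 1) = 1 := by
      have h5 : Commute (f * f) t := (show Commute f t from hft).mul_left (show Commute f t from hft)
      have h6 : Commute f f := Commute.refl f
      have h7 : t ^ 2 ^ (k + 1) = 1 := by
        rw [pow_succ', pow_mul, pow_two, h.tt, one_pow]
      rw [h5.mul_pow, h7, mul_one, h6.mul_pow, pow_succ, pow_mul, hk, one_pow, one_mul]
    have h8 := eq_one_of_two_odd h.odd_core h2 h3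
    have h9 : t = f * f := by
      have : f * f = t⁻¹ := eq_inv_of_mul_eq_one_left h8
      rw [this, inv_eq_of_mul_eq_one_left h.tt]
    rw [h9]
    exact sq_mem C f

/-- **`SwapEnd.Hyp` from the configuration.** -/
theorem hyp {c e u r : ℕ} (C : Conf L A t) (h : CoreQuot.Hyp A t T) (W : Swap M t) (D : Swap.Dia W A)
    (inv : ∃ v ∈ M, v * v = 1 ∧ ∃ m ∈ M, v * m ≠ m * v)
    (ind : ∀ x ∈ normalizer (M : Set G), ∀ y ∈ normalizer (M : Set G), ¬ Inn M x → ¬ Inn M y → Inn M (x * y))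
    (o1 : ∀ f ∈ normalizer (M : Set G), f * f = 1 → ¬ Inn M f → ∀ R : Subgroup G, IsPGroup 2 R →
      (∀ r ∈ R, Inn M r ∧ r * f = f * r) → Nat.card R ≤ c * Nat.card (R ⊓ centralizer (M : Set G) : Subgroup G))
    (o2 : ∀ f ∈ normalizer (M : Set G), f * f = 1 →
      ∃ E ≤ M, (∀ x ∈ E, x * x = 1) ∧ (∀ x ∈ E, x * f = f * x) ∧ e ≤ Nat.card E)
    (o3 : ∀ f ∈ normalizer (M : Set G), f * f = 1 → Inn M f →
      ∃ U ≤ M, IsPGroup 2 U ∧ (∀ x ∈ U, x * f = f * x) ∧ u ≤ Nat.card U)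
    (hX : ∀ B : Subgroup (XQ A t), (∀ x ∈ B, x * x = 1) → (∀ x ∈ B, x * h.tX = h.tX * x) → Nat.card B ≤ r)
    (split : ∀ g ∈ normalizer (im A t A : Set (XQ A t)),
      ¬ (∃ a ∈ im A t A, a⁻¹ * g ∈ centralizer (im A t A : Set (XQ A t))) →
      ∃ a ∈ im A t A, (g * a) * (g * a) ∈ centralizer (im A t A : Set (XQ A t)))
    (her : r < e * e) (num : 4 * (c * c) < e * u) : SwapEnd.Hyp L A M t c e u where
  normal := C.normal
  perf := EndLift.perfect C
  gen := gen C
  inv := inv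
  F1 := W.f1_of_rank (oddC h W D) o2 (rank h hX) her
  oddC := oddC h W D
  ind := ind
  o1 := o1
  o2 := o2
  o3 := o3
  num := num
  invf := invf C h split

end Cfsg.Agent.SwapEnd.FromConf
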