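import Cfsg.Agent.SwapEnd.Diag
import Cfsg.Agent.StdEven.Syl

/-!
# The normalizer of `M M^t` permutes `M`, `M^t`; inner elements; involutions of `t I`
-/

set_option autoImplicit false

namespace Cfsg.Agent.SwapEnd

open Subgroup Cfsg.Agent.StdEven.Syl
open scoped commutatorElement

variable {G : Type*} [Group G]

/-- `N_G(M M^t)`. -/
def YY (M : Subgroup G) (t : G) : Subgroup G := normalizer ((M ⊔ M2 M t : Subgroup G) : Set G)

/-- `N_G(M) ∩ N_G(M^t)`. -/
def YZ (M : Subgroup G) (t : G) : Subgroup G := normalizer (M : Set G) ⊓ normalizer (M2 M t : Set G)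

/-- `y` acts on `M` as an element of `M`. -/
def Inn (M : Subgroup G) (y : G) : Prop := ∃ m ∈ M, ∀ x ∈ M, m⁻¹ * y * x = x * (m⁻¹ * y)

theorem Inn.mul {M : Subgroup G} {x y : G} (hx : Inn M x) (hy : Inn M y) : Inn M (x * y) := by
  obtain ⟨m, hm, h1⟩ := hx
  obtain ⟨n, hn, h2⟩ := hy
  refine ⟨m * n, mul_mem hm hn, fun z hz => ?_⟩
  have e : (m * n)⁻¹ * (x * y) = m⁻¹ * x * (n⁻¹ * y) := by
    calc (m * n)⁻¹ * (x * y) = n⁻¹ * (m⁻¹ * x) * y := by group
      _ = m⁻¹ * x * n⁻¹ * y := by rw [← h1 _ (inv_mem hn)]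
      _ = _ := by group
  rw [e, mul_assoc, h2 z hz, ← mul_assoc, h1 z hz, mul_assoc]

theorem Inn.inv {M : Subgroup G} {x : G} (hx : Inn M x) : Inn M x⁻¹ := by
  obtain ⟨m, hm, h1⟩ := hx
  refine ⟨m⁻¹, inv_mem hm, fun z hz => ?_⟩
  have h2 : m⁻¹ * x = x * m⁻¹ := by
    have h3 := h1 m hm
    calc m⁻¹ * x = m⁻¹ * (m⁻¹ * x * m) * m⁻¹ * m := by
          rw [h3]; group
      _ = m⁻¹ * (m⁻¹ * x * m) := by group
      _ = m⁻¹ * (m * (m⁻¹ * x)) := by rw [h3]
      _ = m⁻¹ * x := by group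
      _ = m⁻¹ * x * m * m⁻¹ := by group
      _ = m * (m⁻¹ * x) * m⁻¹ := by rw [h3]
      _ = x * m⁻¹ := by group
  have h3 : m⁻¹⁻¹ * x⁻¹ = (m⁻¹ * x)⁻¹ := by
    rw [h2, mul_inv_rev]
  rw [h3, inv_mul_eq_iff_eq_mul, ← mul_assoc, h1 z hz]
  group

theorem Inn.one {M : Subgroup G} : Inn M (1 : G) := ⟨1, one_mem _, fun x _ => by rw [inv_one, one_mul, one_mul, mul_one]⟩

theorem Inn.of_mem {M : Subgroup G} {x : G} (hx : x ∈ M) : Inn M x :=
  ⟨x, hx, fun z _ => by rw [inv_mul_cancel, one_mul, mul_one]⟩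

theorem Inn.of_comm {M : Subgroup G} {c : G} (hc : ∀ x ∈ M, c * x = x * c) : Inn M c :=
  ⟨1, one_mem _, fun z hz => by rw [inv_one, one_mul, hc z hz]⟩

/-- a homomorphism from the perfect group `M` with commuting values is trivial -/
theorem hom_trivial {M : Subgroup G} (hM : ⁅M, M⁆ = M) (f : G → G) (hf : ∀ x ∈ M, ∀ y ∈ M, f (x * y) = f x * f y)
    (hc : ∀ x ∈ M, ∀ y ∈ M, f x * f y = f y * f x) : ∀ x ∈ M, f x = 1 := by
  have h1 : f 1 = 1 := by
    have := hf 1 (one_mem _) 1 (one_mem _)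
    rw [mul_one] at this
    exact (mul_eq_left.mp this.symm)
  let K : Subgroup G :=
    { carrier := {x | x ∈ M ∧ f x = 1}
      one_mem' := ⟨one_mem _, h1⟩
      mul_mem' := by
        rintro x y ⟨hx, hx'⟩ ⟨hy, hy'⟩
        exact ⟨mul_mem hx hy, by rw [hf x hx y hy, hx', hy', mul_one]⟩
      inv_mem' := by
        rintro x ⟨hx, hx'⟩
        refine ⟨inv_mem hx, ?_⟩
        have := hf x⁻¹ (inv_mem hx) x hx
        rw [inv_mul_cancel, h1, hx', mul_one] at this
        exact this.symm }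
  have hinv : ∀ x ∈ M, f x⁻¹ = (f x)⁻¹ := by
    intro x hx
    have := hf x⁻¹ (inv_mem hx) x hx
    rw [inv_mul_cancel, h1] at this
    exact eq_inv_of_mul_eq_one_left this.symm
  have h2 : ⁅M, M⁆ ≤ K := by
    rw [Subgroup.commutator_le]
    intro x hx y hy
    refine ⟨?_, ?_⟩
    · rw [commutatorElement_def]
      exact mul_mem (mul_mem (mul_mem hx hy) (inv_mem hx)) (inv_mem hy)
    · rw [commutatorElement_def, hf _ (mul_mem (mul_mem hx hy) (inv_mem hx)) _ (inv_mem hy),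
        hf _ (mul_mem hx hy) _ (inv_mem hx), hf x hx y hy, hinv x hx, hinv y hy, hc x hx y hy]
      group
  intro x hx
  rw [← hM] at hx
  exact (h2 hx).2

namespace Swap

variable {M : Subgroup G} {t : G} (S : Swap M t)

include S

theorem MM2_swap : ¬ ∀ x ∈ M, x ∈ M2 M t := by
  intro h
  apply S.ne
  rw [eq_bot_iff, ← S.perf, Subgroup.commutator_le]
  intro x hx y hy
  rw [mem_bot, commutatorElement_def, S.commM hx (h y hy)]
  group

theorem YZ_le : YZ M t ≤ YY M t := by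
  intro y hy
  obtain ⟨h1, h2⟩ := mem_inf.mp hy
  have key : ∀ y ∈ YZ M t, ∀ m ∈ M ⊔ M2 M t, y * m * y⁻¹ ∈ M ⊔ M2 M t := by
    intro y hy m hm
    obtain ⟨h1, h2⟩ := mem_inf.mp hy
    obtain ⟨a, ha, b, hb, rfl⟩ := S.mem_MM.mp hm
    have e : y * (a * b) * y⁻¹ = y * a * y⁻¹ * (y * b * y⁻¹) := by group
    rw [e]
    exact mul_mem (mem_sup_left (conj_mem_of_mem_normalizer h1 ha)) (mem_sup_right (conj_mem_of_mem_normalizer h2 hb))
  rw [YY, mem_normalizer_iff]
  intro m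
  refine ⟨key y hy m, fun hm => ?_⟩
  have := key _ (inv_mem hy) _ hm
  have e : y⁻¹ * (y * m * y⁻¹) * y⁻¹⁻¹ = m := by group
  rwa [e] at this

theorem t_mem_YY : t ∈ YY M t := by
  rw [YY, mem_normalizer_iff]
  intro m
  rw [S.ti]
  refine ⟨S.t_MM, fun hm => ?_⟩
  have := S.t_MM hm
  rwa [S.tconj] at this

theorem t_YZ {y : G} (hy : y ∈ YZ M t) : t * y * t ∈ YZ M t := by
  obtain ⟨h1, h2⟩ := mem_inf.mp hy
  have hti := S.ti
  have key1 : ∀ y ∈ YZ M t, ∀ x ∈ M, t * y * t * x * (t * y * t)⁻¹ ∈ M := by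
    intro y hy x hx
    have h3 := conj_mem_of_mem_normalizer (mem_inf.mp hy).2 (S.conj_mem_M2 hx)
    have h4 := S.mem_M2.mp h3
    have e : t * y * t * x * (t * y * t)⁻¹ = t * (y * (t * x * t) * y⁻¹) * t := by
      rw [mul_inv_rev, mul_inv_rev, hti]; group
    rw [e]; exact h4
  have key2 : ∀ y ∈ YZ M t, ∀ x ∈ M2 M t, t * y * t * x * (t * y * t)⁻¹ ∈ M2 M t := by
    intro y hy x hx
    have h3 := conj_mem_of_mem_normalizer (mem_inf.mp hy).1 (S.mem_M2.mp hx)
    have h4 := S.conj_mem_M2 h3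
    have e : t * y * t * x * (t * y * t)⁻¹ = t * (y * (t * x * t) * y⁻¹) * t := by
      rw [mul_inv_rev, mul_inv_rev, hti]; group
    rw [e]; exact h4
  have hinv : (t * y * t)⁻¹ = t * y⁻¹ * t := by rw [mul_inv_rev, mul_inv_rev, hti]; group
  refine mem_inf.mpr ⟨?_, ?_⟩
  · rw [mem_normalizer_iff]
    intro x
    refine ⟨key1 y hy x, fun hx => ?_⟩
    have := key1 _ (inv_mem hy) _ hx
    rw [← hinv] at this
    have e : (t * y * t)⁻¹ * (t * y * t * x * (t * y * t)⁻¹) * (t * y * t)⁻¹⁻¹ = x := by group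
    rwa [e] at this
  · rw [mem_normalizer_iff]
    intro x
    refine ⟨key2 y hy x, fun hx => ?_⟩
    have := key2 _ (inv_mem hy) _ hx
    rw [← hinv] at this
    have e : (t * y * t)⁻¹ * (t * y * t * x * (t * y * t)⁻¹) * (t * y * t)⁻¹⁻¹ = x := by group
    rwa [e] at this

theorem MM_le_YZ : M ⊔ M2 M t ≤ YZ M t := by
  have key : ∀ y ∈ M ⊔ M2 M t, (∀ x ∈ M, y * x * y⁻¹ ∈ M) ∧ ∀ x ∈ M2 M t, y * x * y⁻¹ ∈ M2 M t := by
    intro y hy
    refine ⟨fun x hx => S.MM_conj hy hx, fun x hx => ?_⟩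
    have h1 := S.MM_conj (S.t_MM hy) (S.mem_M2.mp hx)
    rw [S.mem_M2]
    have e : t * (y * x * y⁻¹) * t = t * y * t * (t * x * t) * (t * y * t)⁻¹ := by
      rw [mul_inv_rev, mul_inv_rev, S.ti]
      calc t * (y * x * y⁻¹) * t = t * y * 1 * x * 1 * y⁻¹ * t := by group
        _ = t * y * (t * t) * x * (t * t) * y⁻¹ * t := by rw [S.tt]
        _ = _ := by group
    rw [e]; exact h1
  intro y hy
  refine mem_inf.mpr ⟨?_, ?_⟩
  · rw [mem_normalizer_iff]
    intro x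
    refine ⟨(key y hy).1 x, fun hx => ?_⟩
    have := (key _ (inv_mem hy)).1 _ hx
    have e : y⁻¹ * (y * x * y⁻¹) * y⁻¹⁻¹ = x := by group
    rwa [e] at this
  · rw [mem_normalizer_iff]
    intro x
    refine ⟨(key y hy).2 x, fun hx => ?_⟩
    have := (key _ (inv_mem hy)).2 _ hx
    have e : y⁻¹ * (y * x * y⁻¹) * y⁻¹⁻¹ = x := by group
    rwa [e] at this

theorem swap_of {u : G} (hu : t * u ∈ YZ M t) : ∀ x ∈ M, u * x * u⁻¹ ∈ M2 M t := by
  intro x hx
  have h1 := conj_mem_of_mem_normalizer (mem_inf.mp hu).1 hx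
  have h2 := S.conj_mem_M2 h1
  have e : t * (t * u * x * (t * u)⁻¹) * t = u * x * u⁻¹ := by
    rw [mul_inv_rev, S.ti]
    calc t * (t * u * x * (u⁻¹ * t)) * t = (t * t) * u * x * u⁻¹ * (t * t) := by group
      _ = _ := by rw [S.tt, one_mul, mul_one]
  rwa [e] at h2

variable [Finite G]

theorem card_M2 : Nat.card (M2 M t) = Nat.card M :=
  (Nat.card_congr (M.equivMapOfInjective (MulAut.conj t).toMonoidHom (MulAut.conj t).injective).toEquiv).symm

theorem perm1 {g : G} (hg : g ∈ YY M t) : (∀ x ∈ M, g * x * g⁻¹ ∈ M) ∨ ∀ x ∈ M, g * x * g⁻¹ ∈ M2 M t := by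
  set K : Subgroup G := M.map (MulAut.conj g).toMonoidHom with hK
  have hmK : ∀ x ∈ M, g * x * g⁻¹ ∈ K := fun x hx => conj_mem_map g hx
  have hKM : K ≤ M ⊔ M2 M t := by
    rintro _ ⟨x, hx, rfl⟩
    exact conj_mem_of_mem_normalizer hg (mem_sup_left hx)
  have hKc : ∀ m ∈ M ⊔ M2 M t, ∀ k ∈ K, m * k * m⁻¹ ∈ K := by
    rintro m hm _ ⟨x, hx, rfl⟩
    have h1 := conj_inv_mem_of_mem_normalizer hg hm
    have h2 := hmK _ (S.MM_conj h1 hx)
    show m * (g * x * g⁻¹) * m⁻¹ ∈ K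
    have e : g * (g⁻¹ * m * g * x * (g⁻¹ * m * g)⁻¹) * g⁻¹ = m * (g * x * g⁻¹) * m⁻¹ := by group
    rwa [e] at h2
  have hcardK : Nat.card K = Nat.card M :=
    (Nat.card_congr (M.equivMapOfInjective (MulAut.conj g).toMonoidHom (MulAut.conj g).injective).toEquiv).symm
  have hKp : ⁅K, K⁆ = K := by rw [hK, ← Subgroup.map_commutator, S.perf]
  have hNM : ⁅K, M⁆ ≤ M := by
    rw [Subgroup.commutator_le]
    intro k hk m hm
    rw [commutatorElement_def]
    exact mul_mem (S.MM_conj (hKM hk) hm) (inv_mem hm)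
  have hNn : ∀ y ∈ M, ∀ x ∈ ⁅K, M⁆, y * x * y⁻¹ ∈ ⁅K, M⁆ := by
    intro y hy x hx
    have h1 : (⁅K, M⁆ : Subgroup G).map (MulAut.conj y).toMonoidHom ≤ ⁅K, M⁆ := by
      rw [Subgroup.map_commutator]
      apply Subgroup.commutator_mono
      · rintro _ ⟨k, hk, rfl⟩
        exact hKc y (mem_sup_left hy) k hk
      · rintro _ ⟨m, hm, rfl⟩
        exact mul_mem (mul_mem hy hm) (inv_mem hy)
    exact h1 ⟨x, hx, rfl⟩
  rcases S.qs _ hNM hNn with h | h
  · left
    have h1 : M ≤ K := by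
      rw [← h, Subgroup.commutator_le]
      intro k hk m hm
      rw [commutatorElement_def]
      have h2 := mul_mem hk (hKc m (mem_sup_left hm) _ (inv_mem hk))
      have e : k * (m * k⁻¹ * m⁻¹) = k * m * k⁻¹ * m⁻¹ := by group
      rwa [e] at h2
    have h2 : M = K := Subgroup.eq_of_le_of_card_ge h1 hcardK.le
    intro x hx
    rw [h2]
    exact hmK x hx
  · right
    -- `K` centralizes `M`
    have h1 : ∀ k ∈ K, ∀ m ∈ M, k * m * k⁻¹ * m⁻¹ = 1 := by
      intro k hk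
      have hkm : ∀ m ∈ M, k * m * k⁻¹ * m⁻¹ ∈ ⁅K, M⁆ := fun m hm => by
        rw [← commutatorElement_def]
        exact Subgroup.commutator_mem_commutator hk hm
      refine hom_trivial S.perf (fun m => k * m * k⁻¹ * m⁻¹) ?_ ?_
      · intro x hx y hy
        show k * (x * y) * k⁻¹ * (x * y)⁻¹ = k * x * k⁻¹ * x⁻¹ * (k * y * k⁻¹ * y⁻¹)
        have h2 := h _ (hkm y hy) _ (inv_mem hx)
        calc k * (x * y) * k⁻¹ * (x * y)⁻¹ = k * x * k⁻¹ * (k * y * k⁻¹ * y⁻¹ * x⁻¹) := by group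
          _ = _ := by rw [h2]; group
      · intro x hx y hy
        exact h _ (hkm x hx) _ (hNM (hkm y hy))
    have h2 : ∀ k ∈ K, ∀ m ∈ M, k * m = m * k := by
      intro k hk m hm
      have h3 := h1 k hk m hm
      calc k * m = k * m * k⁻¹ * m⁻¹ * m * k := by group
        _ = m * k := by rw [h3, one_mul]
    have h3 : K ≤ M2 M t := by
      rw [← hKp, Subgroup.commutator_le]
      intro k hk k' hk'
      obtain ⟨a, ha, b, hb, rfl⟩ := S.mem_MM.mp (hKM hk)
      obtain ⟨a', ha', b', hb', rfl⟩ := S.mem_MM.mp (hKM hk')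
      -- `a`, `a'` central in `M`
      have ca : ∀ m ∈ M, a * m = m * a := by
        intro m hm
        have h4 := h2 _ hk m hm
        have h5 : b * m = m * b := (S.commM hm hb).symm
        have h6 : a * m * b = m * a * b := by
          rw [mul_assoc a m b, ← h5, ← mul_assoc, h4, mul_assoc]
        exact mul_right_cancel h6
      have cab : a * b' = b' * a := S.commM ha hb'
      have ca'b : a' * b = b * a' := S.commM ha' hb
      have ca'b' : a' * b' = b' * a' := S.commM ha' hb'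
      have cabb : a * b = b * a := S.commM ha hb
      have caa : a * a' = a' * a := ca a' ha'
      have e : ⁅a * b, a' * b'⁆ = ⁅b, b'⁆ := by
        rw [commutatorElement_def, commutatorElement_def]
        have c1 : Commute a (a' * b') := Commute.mul_right caa cab
        have c2 : Commute a' b := ca'b
        have c3 : Commute a b := cabb
        have c4 : Commute a' b' := ca'b'
        calc a * b * (a' * b') * (a * b)⁻¹ * (a' * b')⁻¹
            = a * (b * a') * b' * b⁻¹ * a⁻¹ * b'⁻¹ * a'⁻¹ := by group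
          _ = a * a' * (b * b' * b⁻¹) * a⁻¹ * b'⁻¹ * a'⁻¹ := by rw [← ca'b]; group
          _ = a * a' * (b * b' * b⁻¹ * a⁻¹) * b'⁻¹ * a'⁻¹ := by group
          _ = a * a' * (a⁻¹ * (b * b' * b⁻¹)) * b'⁻¹ * a'⁻¹ := by
              have c5 : Commute (b * b' * b⁻¹) a⁻¹ := by
                apply Commute.inv_right
                apply Commute.symm
                exact (Commute.mul_right (Commute.mul_right cabb cab) (Commute.inv_right cabb))
              rw [c5.eq]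
          _ = (a * a' * a⁻¹) * (b * b' * b⁻¹ * b'⁻¹) * a'⁻¹ := by group
          _ = a' * (b * b' * b⁻¹ * b'⁻¹) * a'⁻¹ := by rw [caa]; group
          _ = b * b' * b⁻¹ * b'⁻¹ := by
              have c6 : Commute a' (b * b' * b⁻¹ * b'⁻¹) :=
                (((c2.mul_right c4).mul_right c2.inv_right).mul_right c4.inv_right)
              rw [c6.eq, mul_inv_cancel_right]
      rw [e]
      exact mul_mem (mul_mem (mul_mem hb hb') (inv_mem hb)) (inv_mem hb')
    intro x hx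
    exact h3 (hmK x hx)

theorem mem_YZ_of {g : G} (hg : g ∈ YY M t) (h : ∀ x ∈ M, g * x * g⁻¹ ∈ M) : g ∈ YZ M t := by
  have h1 : g ∈ normalizer (M : Set G) := mem_normalizer_of_conj_le h
  refine mem_inf.mpr ⟨h1, ?_⟩
  apply mem_normalizer_of_conj_le
  have key : ∀ {x : G}, x ∈ M2 M t → g * x * g⁻¹ = g * t * (t * x * t) * (g * t)⁻¹ := by
    intro x _
    rw [mul_inv_rev, S.ti]
    calc g * x * g⁻¹ = g * 1 * x * 1 * g⁻¹ := by group
      _ = g * (t * t) * x * (t * t) * g⁻¹ := by rw [S.tt]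
      _ = _ := by group
  rcases S.perm1 (mul_mem hg S.t_mem_YY) with h2 | h2
  · exfalso
    apply S.MM2_swap
    -- `g M2 g⁻¹ ≤ M`, hence `= M = g M g⁻¹`
    have h3 : (M2 M t).map (MulAut.conj g).toMonoidHom = M := by
      apply Subgroup.eq_of_le_of_card_ge
      · rintro _ ⟨x, hx, rfl⟩
        show g * x * g⁻¹ ∈ M
        rw [key hx]
        exact h2 _ (S.mem_M2.mp hx)
      · have e1 : Nat.card ((M2 M t).map (MulAut.conj g).toMonoidHom) = Nat.card (M2 M t) :=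
          (Nat.card_congr ((M2 M t).equivMapOfInjective (MulAut.conj g).toMonoidHom (MulAut.conj g).injective).toEquiv).symm
        rw [e1, S.card_M2]
    intro x hx
    have h4 := h x hx
    rw [← h3] at h4
    obtain ⟨y, hy, hyx⟩ := h4
    have h5 : g * y * g⁻¹ = g * x * g⁻¹ := hyx
    have h6 : y = x := mul_left_cancel (mul_right_cancel h5)
    rw [← h6]
    exact hy
  · intro x hx
    rw [key hx]
    exact h2 _ (S.mem_M2.mp hx)

theorem YY_or {g : G} (hg : g ∈ YY M t) : g ∈ YZ M t ∨ t * g ∈ YZ M t := by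
  rcases S.perm1 hg with h | h
  · exact Or.inl (S.mem_YZ_of hg h)
  · right
    refine S.mem_YZ_of (mul_mem S.t_mem_YY hg) fun x hx => ?_
    have h1 := S.mem_M2.mp (h x hx)
    have e : t * g * x * (t * g)⁻¹ = t * (g * x * g⁻¹) * t := by
      rw [mul_inv_rev, S.ti]; group
    rw [e]
    exact h1

end Swap

end Cfsg.Agent.SwapEnd
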