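import Cfsg.Agent.SwapEnd.Swap

/-!
# `t^g ∉ N(M) ∩ N(M^t)` by 2-ranks
-/

set_option autoImplicit false

namespace Cfsg.Agent.SwapEnd.Swap

open Subgroup Cfsg.Agent.StdEven.Syl

variable {G : Type*} [Group G] {M : Subgroup G} {t : G} (S : Swap M t)

include S

/-- **(F1)** -/
theorem f1_of_rank [Finite G] {e r : ℕ} (hC : OddC M t)
    (o2 : ∀ f ∈ normalizer (M : Set G), f * f = 1 →
      ∃ E ≤ M, (∀ x ∈ E, x * x = 1) ∧ (∀ x ∈ E, x * f = f * x) ∧ e ≤ Nat.card E)
    (hr : ∀ B : Subgroup G, (∀ x ∈ B, x * x = 1) → (∀ x ∈ B, x * t = t * x) → Nat.card B ≤ r)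
    (her : r < e * e) (g : G) : g⁻¹ * t * g ∉ YZ M t := by
  intro hx
  set x := g⁻¹ * t * g with hxdef
  have hxx : x * x = 1 := by
    calc x * x = g⁻¹ * (t * t) * g := by rw [hxdef]; group
      _ = 1 := by rw [S.tt]; group
  obtain ⟨E, hEM, hEs, hEx, hEc⟩ := o2 x (mem_inf.mp hx).1 hxx
  have hxt : t * x * t * (t * x * t) = 1 := by rw [← S.tmul, hxx, mul_one, S.tt]
  obtain ⟨F', hFM', hFs', hFx', hFc'⟩ := o2 (t * x * t) (mem_inf.mp (S.t_YZ hx)).1 hxt
  set F : Subgroup G := F'.map (MulAut.conj t).toMonoidHom with hF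
  have hmap : ∀ y : G, (MulAut.conj t).toMonoidHom y = t * y * t := fun y => by
    show t * y * t⁻¹ = _
    rw [S.ti]
  have hFM : F ≤ M2 M t := Subgroup.map_mono hFM'
  have hFc : e ≤ Nat.card F := by
    refine hFc'.trans (le_of_eq ?_)
    exact Nat.card_congr (F'.equivMapOfInjective (MulAut.conj t).toMonoidHom (MulAut.conj t).injective).toEquiv
  have hFs : ∀ y ∈ F, y * y = 1 := by
    rintro _ ⟨y, hy, rfl⟩
    rw [hmap, ← S.tmul, hFs' y hy, mul_one, S.tt]
  have hFx : ∀ y ∈ F, y * x = x * y := by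
    rintro _ ⟨y, hy, rfl⟩
    rw [hmap]
    exact S.tswap (hFx' y hy)
  have hdis : Disjoint E F := by
    rw [disjoint_iff, eq_bot_iff]
    intro y hy
    obtain ⟨h1, h2⟩ := mem_inf.mp hy
    exact S.eq_one_of_inf' hC (hEM h1) (hFM h2) (k := 1) (by rw [pow_one, pow_two]; exact hEs y h1)
  have hB : ∀ y ∈ E ⊔ F, y * y = 1 ∧ y * x = x * y := by
    intro y hy
    have key : ∀ y ∈ closure ((E : Set G) ∪ F), ∃ a ∈ E, ∃ b ∈ F, y = a * b := by
      intro y hy
      induction hy using closure_induction with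
      | mem y hy =>
        rcases hy with hy | hy
        · exact ⟨y, hy, 1, one_mem _, (mul_one y).symm⟩
        · exact ⟨1, one_mem _, y, hy, (one_mul y).symm⟩
      | one => exact ⟨1, one_mem _, 1, one_mem _, (mul_one _).symm⟩
      | mul y z _ _ ihy ihz =>
        obtain ⟨a, ha, b, hb, rfl⟩ := ihy
        obtain ⟨a', ha', b', hb', rfl⟩ := ihz
        refine ⟨a * a', mul_mem ha ha', b * b', mul_mem hb hb', ?_⟩
        have := S.commM (hEM ha') (hFM hb)
        calc a * b * (a' * b') = a * (b * a') * b' := by group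
          _ = a * (a' * b) * b' := by rw [this]
          _ = _ := by group
      | inv y _ ihy =>
        obtain ⟨a, ha, b, hb, rfl⟩ := ihy
        refine ⟨a⁻¹, inv_mem ha, b⁻¹, inv_mem hb, ?_⟩
        rw [mul_inv_rev]
        exact (S.commM (inv_mem (hEM ha)) (inv_mem (hFM hb))).symm
    have hy' : y ∈ closure ((E : Set G) ∪ F) := by rwa [← Subgroup.sup_eq_closure]
    obtain ⟨a, ha, b, hb, rfl⟩ := key y hy'
    have h1 := S.commM (hEM ha) (hFM hb)
    constructor
    · calc a * b * (a * b) = a * (b * a) * b := by group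
        _ = a * (a * b) * b := by rw [h1]
        _ = (a * a) * (b * b) := by group
        _ = 1 := by rw [hEs a ha, hFs b hb, mul_one]
    · calc a * b * x = a * (b * x) := mul_assoc _ _ _
        _ = a * (x * b) := by rw [hFx b hb]
        _ = a * x * b := (mul_assoc _ _ _).symm
        _ = x * a * b := by rw [hEx a ha]
        _ = x * (a * b) := mul_assoc _ _ _
  have h1 : e * e ≤ Nat.card (E ⊔ F : Subgroup G) :=
    (Nat.mul_le_mul hEc hFc).trans (card_mul_le le_sup_left le_sup_right hdis)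
  set B : Subgroup G := (E ⊔ F).map (MulAut.conj g).toMonoidHom with hBdef
  have h2 : Nat.card B = Nat.card (E ⊔ F : Subgroup G) :=
    (Nat.card_congr ((E ⊔ F).equivMapOfInjective (MulAut.conj g).toMonoidHom (MulAut.conj g).injective).toEquiv).symm
  have h3 := hr B ?_ ?_
  · omega
  · rintro _ ⟨y, hy, rfl⟩
    show g * y * g⁻¹ * (g * y * g⁻¹) = 1
    calc g * y * g⁻¹ * (g * y * g⁻¹) = g * (y * y) * g⁻¹ := by group
      _ = 1 := by rw [(hB y hy).1]; group
  · rintro _ ⟨y, hy, rfl⟩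
    show g * y * g⁻¹ * t = t * (g * y * g⁻¹)
    have h4 : t = g * x * g⁻¹ := by rw [hxdef]; group
    calc g * y * g⁻¹ * t = g * (y * x) * g⁻¹ := by rw [h4]; group
      _ = g * (x * y) * g⁻¹ := by rw [(hB y hy).2]
      _ = t * (g * y * g⁻¹) := by rw [h4]; group

end Cfsg.Agent.SwapEnd.Swap
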