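import Cfsg.Agent.SwapEnd.End
import Cfsg.Agent.SwapEnd.FromConf
import Cfsg.Agent.UFiveTwo.ZeroSplit
import Cfsg.Agent.WreathFusion.ChartUni

/-!
# The end of the split case from the data in `X` and the factor `M ≤ G`
-/

set_option autoImplicit false

namespace Cfsg.Agent.SwapEnd

open Cfsg Subgroup Cfsg.Agent.StdEven.Syl Cfsg.Agent.StdEven.CoreQuot Cfsg.Agent.StdL2.Setup
open Cfsg.Agent.UFiveTwo.Zero Cfsg.Agent.WreathFusion Cfsg.Agent.WreathFusion.ChartUni

/-- images of Sylow subgroups -/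
theorem isSyl_image {G X : Type*} [Group G] [Finite G] [Group X] (f : G →* X) {T M : Subgroup G} (hT : IsSyl T M) :
    IsSyl (T.map f) (M.map f) := by
  have : Fact (Nat.Prime 2) := ⟨Nat.prime_two⟩
  have hsur : Function.Surjective (f.subgroupMap M) := f.subgroupMap_surjective M
  have : Finite (M.map f) := Finite.of_surjective _ hsur
  refine ⟨map_mono hT.le, hT.two.map f, fun Y hY hYM hTY => ?_⟩
  have h1 : ∀ {K : Subgroup X}, K = ((hT.toSylow.mapSurjective hsur : Sylow 2 (M.map f)) : Subgroup (M.map f)).map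
      (M.map f).subtype → K = T.map f := by
    rintro _ rfl
    rw [Sylow.coe_mapSurjective, hT.coe_toSylow]
    ext x
    constructor
    · rintro ⟨_, ⟨y, hy, rfl⟩, rfl⟩
      exact ⟨y, mem_subgroupOf.mp hy, rfl⟩
    · rintro ⟨y, hy, rfl⟩
      exact ⟨_, ⟨⟨y, hT.le hy⟩, mem_subgroupOf.mpr hy, rfl⟩, rfl⟩
  have h2 : ((hT.toSylow.mapSurjective hsur : Sylow 2 (M.map f)) : Subgroup (M.map f)) ≤ Y.subgroupOf (M.map f) := by
    intro x hx
    rw [mem_subgroupOf]
    apply hTY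
    rw [← h1 rfl]
    exact ⟨x, hx, rfl⟩
  have h3 := (hT.toSylow.mapSurjective hsur).is_maximal' (Q := Y.subgroupOf (M.map f)) hY.comap_subtype h2
  rw [← h1 rfl, ← h3]
  exact (Subgroup.map_subgroupOf_eq_of_le hYM).symm

/-- `S₁` is a Sylow 2-subgroup of `A₁` -/
theorem isSyl_S1 {X : Type*} [Group X] [Finite X] {A1 A S S1 : Subgroup X} {t : X}
    (H : SplitS A t A1 S S1) (hS : IsSyl S A) : IsSyl S1 A1 := by
  refine ⟨H.le, H.isPGroup, fun Y hY hYA hSY => ?_⟩
  apply le_antisymm _ hSY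
  intro x hx
  -- `φ(Y) = S`
  have h1 : ((Y.subgroupOf A1).map H.phi) = S := by
    refine hS.max _ ((hY.comap_subtype : IsPGroup 2 (Y.subgroupOf A1)).map _) ?_ ?_
    · rintro _ ⟨y, -, rfl⟩
      exact H.diag y.1 y.2
    · intro s hs
      obtain ⟨y, hy, rfl⟩ := H.ontoS s hs
      exact ⟨⟨y, H.le hy⟩, mem_subgroupOf.mpr (hSY hy), rfl⟩
  have h2 : x * (t * x * t) ∈ S := by
    rw [← h1]
    exact ⟨⟨x, hYA hx⟩, mem_subgroupOf.mpr hx, rfl⟩
  obtain ⟨k, hk⟩ := hY ⟨x, hx⟩
  exact H.max x (hYA hx) h2 ⟨k, congrArg Subtype.val hk⟩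

/-- two Sylow subgroups are isomorphic -/
theorem equiv_of_isSyl {X : Type*} [Group X] [Finite X] {P Q N : Subgroup X} (hP : IsSyl P N) (hQ : IsSyl Q N) :
    Nonempty (P ≃* Q) := by
  obtain ⟨n, -, hn⟩ := hP.exists_conj hQ.two hQ.le
  have h1 : Q.map (MulAut.conj n).toMonoidHom = P := by
    apply Subgroup.eq_of_le_of_card_ge
    · rintro _ ⟨x, hx, rfl⟩
      exact hn x hx
    · have e1 : Nat.card (Q.map (MulAut.conj n).toMonoidHom) = Nat.card Q :=
        (Nat.card_congr (Q.equivMapOfInjective (MulAut.conj n).toMonoidHom (MulAut.conj n).injective).toEquiv).symm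
      rw [e1]
      exact hQ.card_le hP.two hP.le
  exact ⟨(MulEquiv.subgroupCongr h1.symm).trans
    (Q.equivMapOfInjective (MulAut.conj n).toMonoidHom (MulAut.conj n).injective).symm⟩

/-- **The split case is impossible.** -/
theorem false_of_split {G : Type*} [Group G] [Finite G] {L A M T : Subgroup G} {t : G} {c e u : ℕ}
    (C : Conf L A t) (h : StdEven.CoreQuot.Hyp A t T) {A1 S S1 : Subgroup (XQ A t)} (H1 : SplitS (im A t A) h.tX A1 S S1)
    (hS : IsSyl S (im A t A)) (hi : CentIndec S1)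
    (hc : centralizer ((⁅S1, S1⁆ : Subgroup (XQ A t)) : Set (XQ A t)) ⊓ S1 ≤ ⁅S1, S1⁆)
    (W : Swap M t) (D : Swap.Dia W A) (hMN : M ≤ NO A t) (hMi : im A t M = A1)
    (H : SwapEnd.Hyp L A M t c e u) : False := by
  have : Finite (XQ A t) := Finite.of_surjective _ (pr_surjective A t)
  have h2 := isSyl_S1 H1 hS
  obtain ⟨TM, hTM, -⟩ := exists_isSyl (X := (⊥ : Subgroup G)) (N := M) (IsPGroup.of_bot) bot_le
  have hTMN : TM ≤ NO A t := hTM.le.trans hMN
  have h3 : IsSyl (im A t TM) A1 := by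
    rw [← hMi]
    have h4 : IsSyl (TM.subgroupOf (NO A t)) (M.subgroupOf (NO A t)) := by
      refine ⟨fun x hx => mem_subgroupOf.mpr (hTM.le (mem_subgroupOf.mp hx)), hTM.two.comap_subtype,
        fun Y hY hYM hTY => ?_⟩
      have h5 := hTM.max (Y.map (NO A t).subtype) (hY.map _) ?_ ?_
      · ext x
        constructor
        · intro hx
          rw [mem_subgroupOf, ← h5]
          exact ⟨x, hx, rfl⟩
        · intro hx
          exact hTY hx
      · rintro _ ⟨x, hx, rfl⟩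
        exact mem_subgroupOf.mp (hYM hx)
      · intro x hx
        exact ⟨⟨x, hTMN hx⟩, hTY (mem_subgroupOf.mpr hx), rfl⟩
    exact isSyl_image (pr A t) h4
  obtain ⟨e1⟩ := equiv_of_isSyl h2 h3
  obtain ⟨e2, -⟩ := h.exists_equiv_im hTM.two hTMN
  have e3 : S1 ≃* TM := e1.trans e2.symm
  exact H.false_of W D C.simple hTM (centIndec_of_equiv e3 hi) (centralizer_le_of_equiv e3 hc)

end Cfsg.Agent.SwapEnd
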